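import Mathlib

/-!
Coefficient formulas in the group algebra of a dihedral group, for Wielandt's theorem that a dihedral
group is a B-group.
-/

set_option autoImplicit false
set_option maxHeartbeats 1000000

namespace Cfsg.Agent.Perm.DihedralB

open DihedralGroup MonoidAlgebra

variable {m : ℕ} [NeZero m] {R : Type*} [CommRing R]

/-- The group algebra of the dihedral group of order `2m`. -/
abbrev Alg (R : Type*) [CommRing R] (m : ℕ) := MonoidAlgebra R (DihedralGroup m)

/-- The element with the given coefficients. -/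
noncomputable def ofFun (f : DihedralGroup m → R) : Alg R m :=
  MonoidAlgebra.ofCoeff (Finsupp.equivFunOnFinite.symm f)

@[simp] theorem coeff_ofFun (f : DihedralGroup m → R) (g : DihedralGroup m) : (ofFun f).coeff g = f g := by
  simp [ofFun]

theorem alg_ext {x y : Alg R m} (h : ∀ g, x.coeff g = y.coeff g) : x = y :=
  MonoidAlgebra.ext (Finsupp.ext h)

theorem alg_ext' {x y : Alg R m} (hr : ∀ i, x.coeff (r i) = y.coeff (r i))
    (hs : ∀ i, x.coeff (sr i) = y.coeff (sr i)) : x = y :=
  alg_ext fun g => by cases g with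
    | r i => exact hr i
    | sr i => exact hs i

/-- A sum over the dihedral group splits over its two cosets of the cyclic subgroup. -/
theorem sum_dihedral {M : Type*} [AddCommMonoid M] (f : DihedralGroup m → M) :
    ∑ g, f g = (∑ i, f (r i)) + ∑ i, f (sr i) := by
  rw [show (∑ i, f (r i)) + ∑ i, f (sr i) = ∑ g : ZMod m ⊕ ZMod m, f (g.elim r sr) from
    (Fintype.sum_sum_type fun g : ZMod m ⊕ ZMod m => f (g.elim r sr)).symm]
  refine Fintype.sum_equiv ⟨fun g => match g with | r i => Sum.inl i | sr i => Sum.inr i,
    fun g => g.elim r sr, fun g => by cases g <;> rfl, fun g => by cases g <;> rfl⟩ _ _ fun g => ?_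
  cases g <;> rfl

theorem coeff_mul_sum (x y : Alg R m) (g : DihedralGroup m) :
    (x * y).coeff g = ∑ h, x.coeff h * y.coeff (h⁻¹ * g) := by
  rw [MonoidAlgebra.coeff_mul_apply_left, Finsupp.sum_fintype _ _ (fun i => by simp)]

theorem coeff_mul_r (x y : Alg R m) (k : ZMod m) :
    (x * y).coeff (r k) = (∑ i, x.coeff (r i) * y.coeff (r (k - i))) + ∑ i, x.coeff (sr i) * y.coeff (sr (i + k)) := by
  rw [coeff_mul_sum, sum_dihedral]
  simp [neg_add_eq_sub]

theorem coeff_mul_sr (x y : Alg R m) (k : ZMod m) :
    (x * y).coeff (sr k) = (∑ i, x.coeff (r i) * y.coeff (sr (k + i))) + ∑ i, x.coeff (sr i) * y.coeff (r (k - i)) := by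
  rw [coeff_mul_sum, sum_dihedral]
  simp

theorem coeff_one (g : DihedralGroup m) : (1 : Alg R m).coeff g = if g = 1 then 1 else 0 := by
  classical
  rw [MonoidAlgebra.one_def, MonoidAlgebra.coeff_single, Finsupp.single_apply]
  split_ifs with h1 h2 h2 <;> grind

/-- The part on the cyclic subgroup. -/
noncomputable def cpart (x : Alg R m) : Alg R m :=
  ofFun fun g => match g with | r i => x.coeff (r i) | sr _ => 0

/-- The part on the reflections. -/
noncomputable def epart (x : Alg R m) : Alg R m :=
  ofFun fun g => match g with | r _ => 0 | sr i => x.coeff (sr i)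

@[simp] theorem cpart_r (x : Alg R m) (i : ZMod m) : (cpart x).coeff (r i) = x.coeff (r i) := by simp [cpart]
@[simp] theorem cpart_sr (x : Alg R m) (i : ZMod m) : (cpart x).coeff (sr i) = 0 := by simp [cpart]
@[simp] theorem epart_r (x : Alg R m) (i : ZMod m) : (epart x).coeff (r i) = 0 := by simp [epart]
@[simp] theorem epart_sr (x : Alg R m) (i : ZMod m) : (epart x).coeff (sr i) = x.coeff (sr i) := by simp [epart]

theorem cpart_add_epart (x : Alg R m) : cpart x + epart x = x := by
  apply alg_ext' <;> intro i <;> simp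

/-- Supported on the cyclic subgroup. -/
def InC (x : Alg R m) : Prop := ∀ i, x.coeff (sr i) = 0

/-- Supported on the reflections. -/
def InE (x : Alg R m) : Prop := ∀ i, x.coeff (r i) = 0

theorem inC_cpart (x : Alg R m) : InC (cpart x) := cpart_sr x
theorem inE_epart (x : Alg R m) : InE (epart x) := epart_r x

theorem InC.mul {x y : Alg R m} (hx : InC x) (hy : InC y) : InC (x * y) := fun k => by
  simp [coeff_mul_sr, hx _, hy _]

theorem InE.mul {x y : Alg R m} (hx : InE x) (hy : InE y) : InC (x * y) := fun k => by
  simp [coeff_mul_sr, hx _, hy _]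

theorem InE.mul_inC {x y : Alg R m} (hx : InE x) (hy : InC y) : InE (x * y) := fun k => by
  simp [coeff_mul_r, hx _, hy _]

theorem inC_one : InC (1 : Alg R m) := fun i => by
  rw [coeff_one, if_neg (fun h => by rw [DihedralGroup.one_def] at h; cases h)]

theorem InC.pow {x : Alg R m} (hx : InC x) : ∀ n : ℕ, InC (x ^ n)
  | 0 => by rw [pow_zero]; exact inC_one
  | n + 1 => by rw [pow_succ]; exact (InC.pow hx n).mul hx

theorem InE.pow_odd {x : Alg R m} (hx : InE x) (n : ℕ) : InE (x ^ (2 * n + 1)) := by
  rw [pow_succ', pow_mul]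
  refine hx.mul_inC (InC.pow ?_ n)
  rw [pow_two]
  exact hx.mul hx

theorem InC.commute {x y : Alg R m} (hx : InC x) (hy : InC y) : Commute x y := by
  refine alg_ext' (fun k => ?_) fun k => by rw [(hx.mul hy) k, (hy.mul hx) k]
  simp only [coeff_mul_r, hx _, hy _, zero_mul, Finset.sum_const_zero, add_zero]
  refine Fintype.sum_equiv (Equiv.subLeft k) _ _ fun i => ?_
  simp [mul_comm]

/-- Symmetric on the cyclic subgroup. -/
def Sym (x : Alg R m) : Prop := ∀ i, x.coeff (r (-i)) = x.coeff (r i)

theorem commute_cpart_epart {x : Alg R m} (hx : Sym x) : Commute (cpart x) (epart x) := by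
  refine alg_ext' (fun k => ?_) (fun k => ?_)
  · simp [coeff_mul_r]
  · simp only [coeff_mul_sr, cpart_r, cpart_sr, epart_r, epart_sr, zero_mul, Finset.sum_const_zero, add_zero,
      zero_add]
    refine Fintype.sum_equiv (Equiv.addLeft k) _ _ fun i => ?_
    simp [mul_comm, hx i]

/-- The product on the cyclic part. -/
theorem cpart_mul (x y : Alg R m) : cpart (x * y) = cpart x * cpart y + epart x * epart y := by
  refine alg_ext' (fun k => ?_) (fun k => ?_)
  · simp [coeff_mul_r]
  · simp [coeff_mul_sr]

theorem epart_mul (x y : Alg R m) : epart (x * y) = cpart x * epart y + epart x * cpart y := by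
  refine alg_ext' (fun k => ?_) (fun k => ?_)
  · simp [coeff_mul_r]
  · simp [coeff_mul_sr]

theorem cpart_eq_self {x : Alg R m} (hx : InC x) : cpart x = x := by
  refine alg_ext' (fun k => cpart_r x k) fun k => ?_
  rw [hx k, cpart_sr]

/-- The all-ones element. -/
noncomputable def allJ : Alg R m := ofFun fun _ => 1

@[simp] theorem allJ_coeff (g : DihedralGroup m) : (allJ : Alg R m).coeff g = 1 := coeff_ofFun _ g

/-- Sum of the coefficients. -/
noncomputable def tot : Alg R m →ₐ[R] R := MonoidAlgebra.lift R R (DihedralGroup m) 1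

/-- The character of the dihedral group trivial on rotations and `-1` on reflections. -/
def signChar : DihedralGroup m →* R where
  toFun g := match g with | r _ => 1 | sr _ => -1
  map_one' := rfl
  map_mul' g h := by cases g <;> cases h <;> simp

theorem signChar_r (i : ZMod m) : (signChar : DihedralGroup m →* R) (r i) = 1 := rfl

theorem signChar_sr (i : ZMod m) : (signChar : DihedralGroup m →* R) (sr i) = -1 := rfl

/-- Coefficient sum on rotations minus that on reflections. -/
noncomputable def sgn : Alg R m →ₐ[R] R := MonoidAlgebra.lift R R (DihedralGroup m) signChar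

theorem tot_eq (x : Alg R m) : tot x = ∑ g, x.coeff g := by
  rw [tot, MonoidAlgebra.lift_apply, Finsupp.sum_fintype _ _ (fun g => by simp)]
  simp

theorem sgn_eq (x : Alg R m) : sgn x = (∑ i, x.coeff (r i)) - ∑ i, x.coeff (sr i) := by
  rw [sgn, MonoidAlgebra.lift_apply, Finsupp.sum_fintype _ _ (fun g => by simp), sum_dihedral]
  simp only [signChar_r, signChar_sr, smul_eq_mul, mul_one, mul_neg, Finset.sum_neg_distrib, sub_eq_add_neg]

/-- Changing the coefficient ring. -/
noncomputable abbrev mapR {S : Type*} [CommRing S] (f : R →+* S) : Alg R m →+* Alg S m :=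
  MonoidAlgebra.mapRingHom (DihedralGroup m) f

@[simp] theorem mapR_coeff {S : Type*} [CommRing S] (f : R →+* S) (x : Alg R m) (g : DihedralGroup m) :
    (mapR f x).coeff g = f (x.coeff g) := by simp [mapR]

end Cfsg.Agent.Perm.DihedralB
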