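import Mathlib

/-!
A prime `p` dividing `m` in `ZMod m`: the elements of order prime to `p`, the subgroup of order `p`, and
functions invariant under the units.
-/

set_option autoImplicit false
set_option maxHeartbeats 1000000

namespace Cfsg.Agent.Perm.DihedralB

/-- A function on `ZMod m` invariant under the units. -/
def UnitInv {m : ℕ} {R : Type*} (f : ZMod m → R) : Prop := ∀ (u : (ZMod m)ˣ) (i : ZMod m), f (u * i) = f i

/-- The factorization `m = p ^ (n + 1) * m'`. -/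
structure Split (m p : ℕ) where
  n : ℕ
  m' : ℕ
  prime : p.Prime
  eq : m = p ^ (n + 1) * m'
  cop : ¬ p ∣ m'

theorem exists_split {m p : ℕ} (hm : m ≠ 0) (hp : p.Prime) (hd : p ∣ m) : Nonempty (Split m p) := by
  obtain ⟨e, m', h1, h2⟩ := Nat.exists_eq_pow_mul_and_not_dvd hm p hp.ne_one
  cases e with
  | zero => rw [pow_zero, one_mul] at h2; exact absurd (h2 ▸ hd) h1
  | succ n => exact ⟨⟨n, m', hp, h2, h1⟩⟩

namespace Split

variable {m p : ℕ} (s : Split m p)

/-- An element of order `p`. -/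
def h : ZMod m := ((p ^ s.n * s.m' : ℕ) : ZMod m)

/-- Order prime to `p`. -/
def Free (i : ZMod m) : Prop := (s.m' : ZMod m) * i = 0

theorem m'_pos [NeZero m] : 0 < s.m' :=
  Nat.pos_of_ne_zero fun h => NeZero.ne m (by rw [s.eq, h, mul_zero])

theorem eq' (s : Split m p) : p * (p ^ s.n * s.m') = m :=
  (by rw [pow_succ]; ring : p * (p ^ s.n * s.m') = p ^ (s.n + 1) * s.m').trans s.eq.symm

theorem dvd (s : Split m p) : p ∣ m := Dvd.intro _ s.eq'

theorem p_mul_h : (p : ZMod m) * s.h = 0 := by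
  rw [h, ← Nat.cast_mul, ZMod.natCast_eq_zero_iff]
  exact ⟨1, by rw [s.eq', mul_one]⟩

theorem cast_mul_h_eq_zero [NeZero m] (c : ℕ) : (c : ZMod m) * s.h = 0 ↔ p ∣ c := by
  have hN : 0 < p ^ s.n * s.m' := mul_pos (pow_pos s.prime.pos _) s.m'_pos
  rw [h, ← Nat.cast_mul, ZMod.natCast_eq_zero_iff]
  exact (iff_of_eq (congrArg (· ∣ c * (p ^ s.n * s.m')) s.eq'.symm)).trans (Nat.mul_dvd_mul_iff_right hN)

theorem cast_mul_h_congr {a b : ℕ} (hab : a ≡ b [MOD p]) : (a : ZMod m) * s.h = (b : ZMod m) * s.h := by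
  have h1 : ∀ a : ℕ, (a : ZMod m) * s.h = ((a % p : ℕ) : ZMod m) * s.h := fun a => by
    conv_lhs => rw [← Nat.mod_add_div a p]
    rw [Nat.cast_add, Nat.cast_mul, add_mul, mul_comm (p : ZMod m), mul_assoc, s.p_mul_h, mul_zero, add_zero]
  rw [h1 a, h1 b, hab]

theorem h_ne_zero [NeZero m] : s.h ≠ 0 := fun e =>
  s.prime.not_dvd_one ((s.cast_mul_h_eq_zero 1).1 (by rw [Nat.cast_one, one_mul, e]))

/-- The kernel of multiplication by `p`. -/
theorem p_mul_eq_iff [NeZero m] {i j : ZMod m} :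
    (p : ZMod m) * i = (p : ZMod m) * j ↔ ∃ c < p, i = j + (c : ZMod m) * s.h := by
  refine ⟨fun e => ?_, ?_⟩
  · have hz : (p : ZMod m) * (i - j) = 0 := by rw [mul_sub, e, sub_self]
    have hN : 0 < p ^ s.n * s.m' := mul_pos (pow_pos s.prime.pos _) s.m'_pos
    rw [← ZMod.natCast_zmod_val (i - j), ← Nat.cast_mul, ZMod.natCast_eq_zero_iff] at hz
    obtain ⟨c, hc⟩ := Nat.dvd_of_mul_dvd_mul_left s.prime.pos ((dvd_of_eq s.eq').trans hz)
    refine ⟨c % p, Nat.mod_lt _ s.prime.pos, ?_⟩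
    rw [← s.cast_mul_h_congr (Nat.mod_modEq c p).symm, h, ← Nat.cast_mul, mul_comm c, ← hc,
      ZMod.natCast_zmod_val, add_sub_cancel]
  · rintro ⟨c, -, rfl⟩
    rw [mul_add, mul_left_comm, s.p_mul_h, mul_zero, add_zero]

theorem free_mul {i : ZMod m} (hi : s.Free i) (a : ZMod m) : s.Free (a * i) := by
  rw [Free, mul_left_comm, hi, mul_zero]

theorem free_add {i j : ZMod m} (hi : s.Free i) (hj : s.Free j) : s.Free (i + j) := by
  rw [Free, mul_add, hi, hj, add_zero]

theorem not_free_h [NeZero m] : ¬ s.Free s.h := fun e => s.cop ((s.cast_mul_h_eq_zero s.m').1 e)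

theorem not_free_one [NeZero m] : ¬ s.Free (1 : ZMod m) := fun e => by
  rw [Free, mul_one] at e
  exact s.not_free_h (by rw [Free, e, zero_mul])

/-- A natural number congruent to given units modulo the two parts. -/
theorem exists_unit [NeZero m] {a b : ℕ} (ha : ¬ p ∣ a) (hb : b.Coprime s.m') :
    ∃ u : ℕ, u.Coprime m ∧ u ≡ a [MOD p ^ (s.n + 1)] ∧ u ≡ b [MOD s.m'] := by
  obtain ⟨u, hu1, hu2⟩ := Nat.chineseRemainder (Nat.Coprime.pow_left (s.n + 1)
    ((Nat.Prime.coprime_iff_not_dvd s.prime).2 s.cop)) a b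
  refine ⟨u, (congrArg (Nat.Coprime u) s.eq).mpr ?_, hu1, hu2⟩
  refine Nat.Coprime.mul_right ?_ ?_
  · exact (hu1.gcd_eq).trans (Nat.Coprime.pow_right _ ((Nat.Prime.coprime_iff_not_dvd s.prime).2 ha).symm)
  · exact (hu2.gcd_eq).trans hb

theorem free_congr {i : ZMod m} (hi : s.Free i) {a b : ℕ} (hab : a ≡ b [MOD s.m']) :
    (a : ZMod m) * i = (b : ZMod m) * i := by
  have h1 : ∀ a : ℕ, (a : ZMod m) * i = ((a % s.m' : ℕ) : ZMod m) * i := fun a => by
    conv_lhs => rw [← Nat.mod_add_div a s.m']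
    rw [Nat.cast_add, Nat.cast_mul, add_mul, mul_comm (s.m' : ZMod m), mul_assoc,
      show (s.m' : ZMod m) * i = 0 from hi, mul_zero, add_zero]
  rw [h1 a, h1 b, hab]

theorem cast_mul_h_congr' {a b : ℕ} (hab : a ≡ b [MOD p ^ (s.n + 1)]) :
    (a : ZMod m) * s.h = (b : ZMod m) * s.h :=
  s.cast_mul_h_congr (hab.of_dvd (dvd_pow_self p (Nat.succ_ne_zero _)))

variable {R : Type*} {f : ZMod m → R} (hf : UnitInv f)

include hf in
theorem apply_mul {u : ℕ} (hu : u.Coprime m) (i : ZMod m) : f ((u : ZMod m) * i) = f i := by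
  have := hf (ZMod.unitOfCoprime u hu) i
  rwa [ZMod.coe_unitOfCoprime] at this

include hf in
theorem apply_free_add [NeZero m] {i : ZMod m} (hi : s.Free i) {c : ℕ} (hc : ¬ p ∣ c) :
    f (i + (c : ZMod m) * s.h) = f (i + s.h) := by
  obtain ⟨u, hu, h1, h2⟩ := s.exists_unit hc (Nat.coprime_one_left s.m')
  rw [← apply_mul hf hu (i + s.h), mul_add, s.free_congr hi h2, Nat.cast_one, one_mul, s.cast_mul_h_congr' h1]

include hf in
theorem apply_add_of_not_free [NeZero m] {i : ZMod m} (hi : ¬ s.Free ((p : ZMod m) * i)) :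
    f (i + s.h) = f i := by
  obtain ⟨v, I', hI', hI⟩ : ∃ v I', ¬ p ∣ I' ∧ i.val = p ^ v * I' := by
    refine Nat.exists_eq_pow_mul_and_not_dvd (fun h0 => hi ?_) p s.prime.ne_one
    rw [(ZMod.val_eq_zero i).1 h0, mul_zero]; exact mul_zero _
  have hvn : v < s.n := by
    by_contra hv
    push Not at hv
    refine hi ?_
    rw [Free, ← ZMod.natCast_zmod_val i, hI, ← Nat.cast_mul, ← Nat.cast_mul, ZMod.natCast_eq_zero_iff]
    obtain ⟨e, rfl⟩ := Nat.exists_eq_add_of_le hv
    refine (dvd_of_eq s.eq'.symm).trans ⟨p ^ e * I', ?_⟩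
    rw [pow_add]; ring
  obtain ⟨t, ht⟩ : ∃ t, I' * t ≡ 1 [MOD p] := by
    haveI := Fact.mk s.prime
    refine ⟨((I' : ZMod p)⁻¹).val, (ZMod.natCast_eq_natCast_iff' _ _ _).1 ?_⟩
    rw [Nat.cast_mul, ZMod.natCast_zmod_val, Nat.cast_one]
    exact mul_inv_cancel₀ fun h => hI' ((ZMod.natCast_eq_zero_iff _ _).1 h)
  obtain ⟨d, hd⟩ := Nat.exists_eq_add_of_lt hvn
  set u : ℕ := 1 + t * s.m' * p ^ (d + 1) with hu
  have hcop : u.Coprime m := by
    refine (congrArg (Nat.Coprime u) s.eq).mpr ?_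
    refine Nat.Coprime.mul_right (Nat.Coprime.pow_right _ ((Nat.Prime.coprime_iff_not_dvd s.prime).2 ?_).symm) ?_
    · intro h
      exact s.prime.not_dvd_one ((Nat.dvd_add_left (Dvd.dvd.mul_left (dvd_pow_self p (Nat.succ_ne_zero _)) _)).1 h)
    · rw [hu, show t * s.m' * p ^ (d + 1) = t * p ^ (d + 1) * s.m' by ring, Nat.coprime_add_mul_right_left]
      exact Nat.coprime_one_left _
  rw [← apply_mul hf hcop i]
  congr 1
  rw [← ZMod.natCast_zmod_val i, hI, ← Nat.cast_mul,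
    show u * (p ^ v * I') = p ^ v * I' + (I' * t) * (p ^ s.n * s.m') by rw [hu, hd, pow_add p (v + d) 1, pow_add p v d, pow_add p d 1]; ring,
    Nat.cast_add, Nat.cast_mul (I' * t)]
  rw [show ((p ^ s.n * s.m' : ℕ) : ZMod m) = s.h from rfl, s.cast_mul_h_congr ht, Nat.cast_one, one_mul]

theorem exists_free_root [NeZero m] {k : ZMod m} (hk : s.Free k) :
    ∃ u : ℕ, u.Coprime m ∧ (p : ZMod m) * ((u : ZMod m) * k) = k ∧ (u : ZMod m) * s.h = s.h := by
  obtain ⟨b, hb⟩ : ∃ b, p * b ≡ 1 [MOD s.m'] := by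
    rcases Nat.lt_or_ge 1 s.m' with h1 | h1
    · obtain ⟨b, hb⟩ := Nat.exists_mul_mod_eq_one_of_coprime
        ((Nat.Prime.coprime_iff_not_dvd s.prime).2 s.cop) h1
      exact ⟨b, by rw [Nat.ModEq, hb.2, Nat.mod_eq_of_lt h1]⟩
    · have := s.m'_pos
      exact ⟨0, by rw [show s.m' = 1 by omega]; exact Nat.modEq_one⟩
  have hbc : b.Coprime s.m' := Nat.Coprime.coprime_dvd_left (Dvd.intro_left p rfl)
    (hb.gcd_eq.trans (Nat.coprime_one_left s.m'))
  obtain ⟨u, hu, h1, h2⟩ := s.exists_unit (a := 1) s.prime.not_dvd_one hbc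
  refine ⟨u, hu, ?_, by rw [s.cast_mul_h_congr' h1, Nat.cast_one, one_mul]⟩
  rw [← mul_assoc, ← Nat.cast_mul, s.free_congr hk ((h2.mul_left p).trans hb), Nat.cast_one, one_mul]

include hf in
/-- Periodicity only has to be checked on the elements of order prime to `p`. -/
theorem periodic [NeZero m] (h0 : ∀ i, s.Free i → f (i + s.h) = f i) (i : ZMod m) : f (i + s.h) = f i := by
  by_cases hi : s.Free ((p : ZMod m) * i)
  · obtain ⟨u, -, hu, -⟩ := s.exists_free_root hi
    set i₀ := (u : ZMod m) * ((p : ZMod m) * i)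
    have hfree : s.Free i₀ := s.free_mul hi _
    have hval : ∀ c : ℕ, f (i₀ + (c : ZMod m) * s.h) = f i₀ := fun c => by
      by_cases hc : p ∣ c
      · rw [(s.cast_mul_h_eq_zero c).2 hc, add_zero]
      · rw [s.apply_free_add hf hfree hc, h0 _ hfree]
    obtain ⟨c, -, hc⟩ := s.p_mul_eq_iff.1 hu.symm
    rw [hc, hval c, show i₀ + (c : ZMod m) * s.h + s.h = i₀ + ((c + 1 : ℕ) : ZMod m) * s.h by
      rw [Nat.cast_add, Nat.cast_one]; ring, hval]
  · exact s.apply_add_of_not_free hf hi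

variable [AddCommGroup R]

-- sums over roots

theorem sum_fibre [NeZero m] (g : ZMod m → R) {i₀ k : ZMod m} (hi : (p : ZMod m) * i₀ = k) :
    ∑ i with (p : ZMod m) * i = k, g i = ∑ c ∈ Finset.range p, g (i₀ + (c : ZMod m) * s.h) := by
  symm
  refine Finset.sum_bij (fun c _ => i₀ + (c : ZMod m) * s.h) (fun c _ => ?_) (fun a ha b hb e => ?_)
    (fun i hi' => ?_) (fun _ _ => rfl)
  · simp [mul_add, mul_left_comm _ (c : ZMod m), s.p_mul_h, hi]
  · simp only [Finset.mem_range] at ha hb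
    have e' : (a : ZMod m) * s.h = (b : ZMod m) * s.h := add_left_cancel e
    wlog hab : a ≤ b generalizing a b
    · symm; apply this <;> first | exact le_of_not_ge hab | exact e.symm | exact e'.symm | assumption
    obtain ⟨d, rfl⟩ := Nat.exists_eq_add_of_le hab
    rw [Nat.cast_add, add_mul, left_eq_add, s.cast_mul_h_eq_zero] at e'
    have := Nat.eq_zero_of_dvd_of_lt e' (by omega)
    omega
  · simp only [Finset.mem_filter, Finset.mem_univ, true_and] at hi'
    obtain ⟨c, hc, rfl⟩ := s.p_mul_eq_iff.1 (hi'.trans hi.symm)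
    exact ⟨c, Finset.mem_range.2 hc, rfl⟩

include hf in
/-- Sum over the `p`-th roots in characteristic `p`. -/
theorem sum_fibre_eq [NeZero m] (hR : ∀ r : R, p • r = 0) (k : ZMod m) [Decidable (s.Free k)] :
    ∑ i with (p : ZMod m) * i = k, f i = if s.Free k then f k - f (k + s.h) else 0 := by
  split_ifs with hk
  · obtain ⟨u, hu, hu1, hu2⟩ := s.exists_free_root hk
    rw [s.sum_fibre f hu1, Finset.range_eq_Ico, Finset.sum_eq_sum_Ico_succ_bot s.prime.pos, Nat.cast_zero, zero_mul,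
      add_zero, apply_mul hf hu, Finset.sum_congr rfl (g := fun _ => f (k + s.h)) (fun c hc => ?_),
      Finset.sum_const, Nat.card_Ico]
    · have h1 : (p - (0 + 1)) • f (k + s.h) + f (k + s.h) = 0 := by
        rw [← succ_nsmul, show p - (0 + 1) + 1 = p by have := s.prime.one_lt; omega]; exact hR _
      rw [eq_neg_of_add_eq_zero_left h1, sub_eq_add_neg]
    · rw [Finset.mem_Ico] at hc
      rw [s.apply_free_add hf (s.free_mul hk _) (fun hd => by have := Nat.le_of_dvd (by omega) hd; omega),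
        ← apply_mul hf hu (k + s.h), mul_add, hu2]
  · rcases (Finset.univ.filter fun i : ZMod m => (p : ZMod m) * i = k).eq_empty_or_nonempty with he | ⟨i₀, hi₀⟩
    · rw [he, Finset.sum_empty]
    simp only [Finset.mem_filter, Finset.mem_univ, true_and] at hi₀
    have hval : ∀ c : ℕ, f (i₀ + (c : ZMod m) * s.h) = f i₀ := by
      intro c
      induction c with
      | zero => simp
      | succ c ih =>
        rw [Nat.cast_succ, add_mul, one_mul, ← add_assoc, s.apply_add_of_not_free hf ?_, ih]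
        rwa [mul_add, mul_left_comm _ (c : ZMod m), s.p_mul_h, mul_zero, add_zero, hi₀]
    rw [s.sum_fibre f hi₀, Finset.sum_congr rfl (fun c _ => hval c), Finset.sum_const, Finset.card_range, hR]

end Split

end Cfsg.Agent.Perm.DihedralB
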