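import Mathlib
import Cfsg.Agent.Lib.Perm.DihedralB.Algebra

/-!
A primitive group on the dihedral group containing the left translations: the invariant elements of the
group algebra and the orbits of the stabilizer of `1`.
-/

set_option autoImplicit false
set_option maxHeartbeats 1000000

namespace Cfsg.Agent.Perm.DihedralB

open DihedralGroup MonoidAlgebra MulAction

open scoped Pointwise

variable {m : ℕ} [NeZero m] {R : Type*} [CommRing R]
variable {G : Type*} [Group G] [MulAction G (DihedralGroup m)]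

/-- The group contains the left translations and is primitive. -/
structure Regular (G : Type*) [Group G] (m : ℕ) [MulAction G (DihedralGroup m)] : Prop where
  left : ∀ d : DihedralGroup m, ∃ g : G, ∀ x : DihedralGroup m, g • x = d * x
  prim : IsPreprimitive G (DihedralGroup m)
  one_lt : 1 < m

/-- The coefficient function gives a `G`-invariant kernel. -/
def Inv (G : Type*) [Group G] [MulAction G (DihedralGroup m)] (x : Alg R m) : Prop :=
  ∀ (g : G) (a b : DihedralGroup m), x.coeff ((g • a)⁻¹ * (g • b)) = x.coeff (a⁻¹ * b)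

/-- Same orbit of the stabilizer of `1`. -/
def Rel (G : Type*) [Group G] [MulAction G (DihedralGroup m)] (u v : DihedralGroup m) : Prop :=
  ∃ g : G, g • (1 : DihedralGroup m) = 1 ∧ g • u = v

omit [NeZero m] in
theorem Rel.refl (u : DihedralGroup m) : Rel G u u := ⟨1, one_smul _ _, one_smul _ _⟩

omit [NeZero m] in
theorem Rel.symm {u v : DihedralGroup m} : Rel G u v → Rel G v u := fun ⟨g, h1, h2⟩ =>
  ⟨g⁻¹, inv_smul_eq_iff.2 h1.symm, inv_smul_eq_iff.2 h2.symm⟩

omit [NeZero m] in
theorem Rel.trans {u v w : DihedralGroup m} : Rel G u v → Rel G v w → Rel G u w :=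
  fun ⟨g, h1, h2⟩ ⟨g', h1', h2'⟩ => ⟨g' * g, by rw [mul_smul, h1, h1'], by rw [mul_smul, h2, h2']⟩

omit [NeZero m] in
theorem Rel.one_left {v : DihedralGroup m} : Rel G 1 v → v = 1 := fun ⟨_, h1, h2⟩ => h2.symm.trans h1

namespace Inv

omit [NeZero m] in
theorem rel {x : Alg R m} (hx : Inv G x) {u v : DihedralGroup m} (h : Rel G u v) :
    x.coeff u = x.coeff v := by
  obtain ⟨g, h1, h2⟩ := h
  simpa [h1, h2] using (hx g 1 u).symm

omit [NeZero m] in
theorem add {x y : Alg R m} (hx : Inv G x) (hy : Inv G y) : Inv G (x + y) := fun g a b => by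
  simp [hx g a b, hy g a b]

omit [NeZero m] in
theorem sub {x y : Alg R m} (hx : Inv G x) (hy : Inv G y) : Inv G (x - y) := fun g a b => by
  simp [hx g a b, hy g a b]

omit [NeZero m] in
theorem smul (c : R) {x : Alg R m} (hx : Inv G x) : Inv G (c • x) := fun g a b => by
  simp [hx g a b]

theorem one : Inv G (1 : Alg R m) := fun g a b => by
  rw [coeff_one, coeff_one]
  simp [inv_mul_eq_one]

theorem allJ : Inv G (DihedralB.allJ : Alg R m) := fun g a b => by simp

theorem mapR {S : Type*} [CommRing S] (f : R →+* S) {x : Alg R m} (hx : Inv G x) :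
    Inv G (DihedralB.mapR f x) := fun g a b => by simp [hx g a b]

theorem mul {x y : Alg R m} (hx : Inv G x) (hy : Inv G y) : Inv G (x * y) := by
  intro g a b
  rw [coeff_mul_sum, coeff_mul_sum,
    ← Equiv.sum_comp (Equiv.mulLeft (g • a)⁻¹) (fun h => x.coeff h * y.coeff (h⁻¹ * ((g • a)⁻¹ * (g • b)))),
    ← Equiv.sum_comp (Equiv.mulLeft a⁻¹) (fun h => x.coeff h * y.coeff (h⁻¹ * (a⁻¹ * b))),
    ← Equiv.sum_comp (MulAction.toPerm g)]
  refine Finset.sum_congr rfl fun w _ => ?_
  simp only [MulAction.toPerm_apply, Equiv.coe_mulLeft, mul_inv_rev, inv_inv, mul_assoc, mul_inv_cancel_left]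
  rw [hx g a w, hy g w b]

theorem pow {x : Alg R m} (hx : Inv G x) : ∀ n : ℕ, Inv G (x ^ n)
  | 0 => by rw [pow_zero]; exact one
  | n + 1 => by rw [pow_succ]; exact (pow hx n).mul hx

end Inv

namespace Regular

variable (S : Regular G m)

include S in
theorem inv_of_const {x : Alg R m} (h : ∀ u v, Rel G u v → x.coeff u = x.coeff v) : Inv G x := by
  intro g a b
  obtain ⟨l₁, hl₁⟩ := S.left a
  obtain ⟨l₂, hl₂⟩ := S.left (g • a)
  refine (h _ _ ⟨l₂⁻¹ * g * l₁, ?_, ?_⟩).symm
  · rw [mul_smul, mul_smul, hl₁, mul_one, inv_smul_eq_iff, hl₂, mul_one]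
  · rw [mul_smul, mul_smul, hl₁, mul_inv_cancel_left, inv_smul_eq_iff, hl₂, mul_inv_cancel_left]

include S in
omit [NeZero m] in
/-- A class of an invariant equivalence is everything or a point. -/
theorem block_trivial {E : DihedralGroup m → DihedralGroup m → Prop} (hE : Equivalence E)
    (hG : ∀ (g : G) a b, E a b → E (g • a) (g • b)) {h : DihedralGroup m} (hh : E 1 h) (hne : h ≠ 1) :
    ∀ a, E 1 a := by
  have hB : IsBlock G {a | E 1 a} := by
    intro g₁ g₂ hne'
    rw [Set.disjoint_left]
    rintro _ ⟨a, ha, rfl⟩ ⟨b, hb, hab⟩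
    refine hne' ?_
    have key : E (g₁ • (1 : DihedralGroup m)) (g₂ • (1 : DihedralGroup m)) :=
      hE.trans (hG g₁ _ _ ha) (hE.symm (by
        have h2 := hG g₂ _ _ hb
        simp only at hab
        rwa [hab] at h2))
    ext c
    rw [Set.mem_smul_set_iff_inv_smul_mem, Set.mem_smul_set_iff_inv_smul_mem, Set.mem_setOf_eq, Set.mem_setOf_eq]
    constructor <;> intro hc
    · have := hG g₂⁻¹ _ _ (hE.trans (hE.symm key) (by simpa using hG g₁ _ _ hc : E (g₁ • (1 : DihedralGroup m)) c))
      simpa using this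
    · have := hG g₁⁻¹ _ _ (hE.trans key (by simpa using hG g₂ _ _ hc : E (g₂ • (1 : DihedralGroup m)) c))
      simpa using this
  rcases S.prim.isTrivialBlock_of_isBlock hB with h1 | h1
  · exact absurd (h1 hh (hE.refl 1)) hne
  · exact fun a => (Set.eq_univ_iff_forall.1 h1) a

include S in
/-- An invariant element with a nontrivial left period is constant. -/
theorem const_of_period {x : Alg R m} (hx : Inv G x) {h : DihedralGroup m} (hne : h ≠ 1)
    (hper : ∀ c, x.coeff (h * c) = x.coeff c) (c : DihedralGroup m) : x.coeff c = x.coeff 1 := by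
  have hE : Equivalence fun a b : DihedralGroup m => ∀ c, x.coeff (a⁻¹ * c) = x.coeff (b⁻¹ * c) :=
    ⟨fun _ _ => rfl, fun h c => (h c).symm, fun h h' c => (h c).trans (h' c)⟩
  have key := S.block_trivial hE (fun g a b hab d => by
      obtain ⟨d, rfl⟩ : ∃ d', g • d' = d := ⟨g⁻¹ • d, smul_inv_smul g d⟩
      rw [hx, hx]; exact hab d)
    (h := h) (fun c => by rw [inv_one, one_mul, ← hper (h⁻¹ * c), mul_inv_cancel_left]) hne c⁻¹ 1
  simpa using key.symm

include S in
/-- An invariant element supported in a proper subgroup is a scalar. -/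
theorem eq_zero_of_support {x : Alg R m} (hx : Inv G x) (L : Subgroup (DihedralGroup m)) (hL : L ≠ ⊤)
    (hsup : ∀ c, c ∉ L → x.coeff c = 0) {c : DihedralGroup m} (hc : c ≠ 1) : x.coeff c = 0 := by
  by_contra hxc
  set E := Relation.EqvGen fun a b : DihedralGroup m => x.coeff (a⁻¹ * b) ≠ 0
  have hEL : ∀ a b, E a b → a⁻¹ * b ∈ L := by
    intro a b hab
    induction hab with
    | rel a b h => by_contra hn; exact h (hsup _ hn)
    | refl a => simp
    | symm a b _ h => simpa using inv_mem h
    | trans a b c _ _ h1 h2 => simpa [mul_assoc] using mul_mem h1 h2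
  have hEG : ∀ (g : G) a b, E a b → E (g • a) (g • b) := by
    intro g a b hab
    induction hab with
    | rel a b h => exact Relation.EqvGen.rel _ _ (by rwa [hx])
    | refl a => exact Relation.EqvGen.refl _
    | symm a b _ h => exact Relation.EqvGen.symm _ _ h
    | trans a b c _ _ h1 h2 => exact Relation.EqvGen.trans _ _ _ h1 h2
  have key := S.block_trivial (Relation.EqvGen.is_equivalence _) hEG (h := c)
    (Relation.EqvGen.rel _ _ (by simpa using hxc)) hc
  exact hL (eq_top_iff.2 fun a _ => by simpa using hEL 1 a (key a))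

end Regular

/-- The rotation subgroup. -/
def rot (m : ℕ) : Subgroup (DihedralGroup m) where
  carrier := {g | ∃ i, g = r i}
  one_mem' := ⟨0, rfl⟩
  mul_mem' := by rintro _ _ ⟨i, rfl⟩ ⟨j, rfl⟩; exact ⟨i + j, rfl⟩
  inv_mem' := by rintro _ ⟨i, rfl⟩; exact ⟨-i, rfl⟩

omit [NeZero m] in
theorem rot_ne_top : rot m ≠ ⊤ := fun h => by
  obtain ⟨i, hi⟩ := (h ▸ Subgroup.mem_top (sr (0 : ZMod m)) : sr (0 : ZMod m) ∈ rot m)
  cases hi

namespace Regular

variable (S : Regular G m)

include S in
/-- Invariant elements supported on the rotations are scalars. -/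
theorem eq_zero_of_inC {x : Alg R m} (hx : Inv G x) (hC : InC x) {c : DihedralGroup m} (hc : c ≠ 1) :
    x.coeff c = 0 :=
  S.eq_zero_of_support hx (rot m) rot_ne_top (fun d hd => by
    cases d with
    | r i => exact absurd ⟨i, rfl⟩ hd
    | sr i => exact hC i) hc

include S in
/-- Invariant elements are symmetric. -/
theorem coeff_inv {x : Alg R m} (hx : Inv G x) (c : DihedralGroup m) : x.coeff c⁻¹ = x.coeff c := by
  set y : Alg R m := ofFun fun d => x.coeff d⁻¹ - x.coeff d with hy
  have hyI : Inv G y := fun g a b => by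
    simp only [hy, coeff_ofFun, mul_inv_rev, inv_inv, hx g b a, hx g a b]
  rcases eq_or_ne c 1 with rfl | hc
  · rw [inv_one]
  · exact sub_eq_zero.1 (by simpa [hy] using S.eq_zero_of_inC hyI (fun i => by simp [hy]) hc)

include S in
theorem sym {x : Alg R m} (hx : Inv G x) : Sym x := fun i => by
  simpa using S.coeff_inv hx (r i)

include S in
theorem commute {x y : Alg R m} (hx : Inv G x) (hy : Inv G y) : Commute x y := by
  refine alg_ext fun c => ?_
  rw [← S.coeff_inv (hx.mul hy), coeff_mul_sum, coeff_mul_sum]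
  refine Fintype.sum_equiv (Equiv.mulLeft c) _ _ fun d => ?_
  rw [Equiv.coe_mulLeft, mul_inv_rev, mul_assoc, inv_mul_cancel, mul_one, S.coeff_inv hx, mul_comm]
  congr 1
  rw [← S.coeff_inv hy, mul_inv_rev, inv_inv, inv_inv]

include S in
/-- Every orbit of the stabilizer meets the rotations. -/
theorem exists_rel (v : DihedralGroup m) : ∃ i, Rel G v (r i) := by
  classical
  rcases eq_or_ne v 1 with rfl | hv
  · exact ⟨0, Rel.refl _⟩
  by_contra hno
  push Not at hno
  set x : Alg ℤ m := ofFun fun d => if Rel G v d then 1 else 0 with hx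
  have hxI : Inv G x := S.inv_of_const fun a b hab => by
    simp only [hx, coeff_ofFun]
    exact if_congr ⟨fun h => h.trans hab, fun h => h.trans hab.symm⟩ rfl rfl
  have hE : InE x := fun i => by simp [hx, hno i]
  have hnn : ∀ d, 0 ≤ x.coeff d := fun d => by simp only [hx, coeff_ofFun]; split_ifs <;> norm_num
  have honly : ∀ s, Rel G v s → s = v := by
    intro s hs
    by_contra hne
    have h0 := S.eq_zero_of_inC (hxI.mul hxI) (hE.mul hE) (c := v⁻¹ * s)
      (fun e => hne (inv_mul_eq_one.1 e).symm)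
    rw [coeff_mul_sum, Finset.sum_eq_zero_iff_of_nonneg fun d _ => mul_nonneg (hnn _) (hnn _)] at h0
    have := h0 v⁻¹ (Finset.mem_univ _)
    rw [S.coeff_inv hxI, inv_inv, mul_inv_cancel_left] at this
    simp [hx, hs, Rel.refl] at this
  obtain ⟨i, rfl⟩ : ∃ i, v = sr i := by
    cases v with
    | r i => exact absurd (Rel.refl (r i)) (hno i)
    | sr i => exact ⟨i, rfl⟩
  have hL : Subgroup.zpowers (sr i : DihedralGroup m) ≠ ⊤ := fun h => by
    have h1 := congrArg (fun K : Subgroup (DihedralGroup m) => Nat.card K) h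
    simp only [Nat.card_zpowers, orderOf_sr, Subgroup.card_top, DihedralGroup.nat_card] at h1
    have := S.one_lt
    omega
  have h1 := S.eq_zero_of_support hxI _ hL (fun d hd => by
    simp only [hx, coeff_ofFun]
    rw [if_neg fun h => hd (honly d h ▸ Subgroup.mem_zpowers _)]) hv
  simp [hx, Rel.refl] at h1

include S in
/-- An invariant element is determined by its rotation part. -/
theorem ext_C {x y : Alg R m} (hx : Inv G x) (hy : Inv G y) (h : ∀ i, x.coeff (r i) = y.coeff (r i)) : x = y :=
  alg_ext fun d => by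
    obtain ⟨i, hi⟩ := S.exists_rel d
    rw [hx.rel hi, hy.rel hi, h i]

include S in
/-- A function on the rotations constant on orbits extends to an invariant element. -/
theorem exists_ext (f : ZMod m → R) (hf : ∀ i j, Rel G (r i) (r j) → f i = f j) :
    ∃ x : Alg R m, Inv G x ∧ ∀ i, x.coeff (r i) = f i := by
  choose c hc using S.exists_rel
  refine ⟨ofFun fun d => f (c d), S.inv_of_const fun u v huv => ?_, fun i => ?_⟩
  · rw [coeff_ofFun, coeff_ofFun]; exact hf _ _ (((hc u).symm.trans huv).trans (hc v))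
  · rw [coeff_ofFun]; exact hf _ _ (hc _).symm

end Regular

end Cfsg.Agent.Perm.DihedralB
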