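import Mathlib
import Cfsg.Agent.Lib.Perm.DihedralB.Setting
import Cfsg.Agent.Lib.Perm.DihedralB.Cyclic

/-!
Prime powers of invariant elements, the multipliers of the orbit partition, and the invariant elements
whose rotation part is unchanged by the multipliers.
-/

set_option autoImplicit false
set_option maxHeartbeats 1000000

namespace Cfsg.Agent.Perm.DihedralB

open DihedralGroup MonoidAlgebra MulAction

variable {m : ℕ} [NeZero m] {R : Type*} [CommRing R]
variable {G : Type*} [Group G] [MulAction G (DihedralGroup m)]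

/-- The rotation part of the `q`-th power of an element supported on rotations, in characteristic `q`. -/
theorem inC_pow_coeff {q : ℕ} [Fact q.Prime] {x : Alg (ZMod q) m} (hx : InC x) (k : ZMod m) :
    (x ^ q).coeff (r k) = ∑ i with (q : ZMod m) * i = k, x.coeff (r i) := by
  classical
  haveI : CharP (Alg (ZMod q) m) q :=
    charP_of_injective_algebraMap (algebraMap (ZMod q) (Alg (ZMod q) m)).injective q
  haveI : ExpChar (Alg (ZMod q) m) q := ExpChar.prime Fact.out
  have hdec : x = ∑ i, single (r i) (x.coeff (r i)) := by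
    refine alg_ext' (fun j => ?_) (fun j => ?_) <;>
      simp [hx j, Finsupp.single_apply]
  have hinC : ∀ S : Finset (ZMod m), InC (∑ i ∈ S, single (r i) (x.coeff (r i))) := fun S j => by
    simp [Finsupp.single_apply]
  have hkey : ∀ S : Finset (ZMod m), (∑ i ∈ S, single (r i) (x.coeff (r i))) ^ q
      = ∑ i ∈ S, single (r ((q : ZMod m) * i)) (x.coeff (r i)) := by
    intro S
    induction S using Finset.induction_on with
    | empty => rw [Finset.sum_empty, Finset.sum_empty, zero_pow (Fact.out : q.Prime).ne_zero]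
    | insert a S ha ih =>
      rw [Finset.sum_insert ha, Finset.sum_insert ha]
      rw [add_pow_char_of_commute q (InC.commute (fun j => by simp [Finsupp.single_apply]) (hinC S)), ih,
        single_pow, ZMod.pow_card, DihedralGroup.r_pow, mul_comm a]
  conv_lhs => rw [hdec, hkey]
  simp [Finsupp.single_apply, Finset.sum_filter]

/-- The rotation part of the `q`-th power, `q` odd. -/
theorem pow_coeff {q : ℕ} [Fact q.Prime] (hq : q ≠ 2) {x : Alg (ZMod q) m} (hx : Sym x) (k : ZMod m) :
    (x ^ q).coeff (r k) = ∑ i with (q : ZMod m) * i = k, x.coeff (r i) := by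
  haveI : CharP (Alg (ZMod q) m) q :=
    charP_of_injective_algebraMap (algebraMap (ZMod q) (Alg (ZMod q) m)).injective q
  haveI : ExpChar (Alg (ZMod q) m) q := ExpChar.prime Fact.out
  obtain ⟨n, hn⟩ := (Fact.out : q.Prime).odd_of_ne_two hq
  conv_lhs => rw [← cpart_add_epart x, add_pow_char_of_commute q (commute_cpart_epart hx)]
  rw [MonoidAlgebra.coeff_add, Finsupp.add_apply, inC_pow_coeff (inC_cpart x)]
  have : (epart x ^ q).coeff (r k) = 0 :=
    (congrArg (fun e => (epart x ^ e).coeff (r k)) hn).trans ((inE_epart x).pow_odd n k)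
  simp [this]

/-- The element `1` on a set and `0` off it. -/
noncomputable def ind (P : DihedralGroup m → Prop) : Alg R m :=
  open Classical in ofFun fun g => if P g then 1 else 0

@[simp] theorem ind_coeff (P : DihedralGroup m → Prop) (g : DihedralGroup m) [Decidable (P g)] :
    (ind P : Alg R m).coeff g = if P g then 1 else 0 := by
  rw [ind, coeff_ofFun]; split_ifs <;> rfl

theorem mapR_ind {S : Type*} [CommRing S] (f : R →+* S) (P : DihedralGroup m → Prop) :
    mapR f (ind P : Alg R m) = ind P := by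
  classical
  refine alg_ext fun g => ?_
  rw [mapR_coeff, ind_coeff, ind_coeff, apply_ite f, map_one, map_zero]

theorem Regular.inv_ind (S : Regular G m) {P : DihedralGroup m → Prop}
    (h : ∀ u v, Rel G u v → P u → P v) : Inv G (ind P : Alg R m) := by
  classical
  exact S.inv_of_const fun u v huv => by
    rw [ind_coeff, ind_coeff]; exact if_congr ⟨h u v huv, h v u huv.symm⟩ rfl rfl

theorem exists_prime_unit (u : (ZMod m)ˣ) (N : ℕ) :
    ∃ q : ℕ, q.Prime ∧ N < q ∧ q ≠ 2 ∧ (q : ZMod m) = (u : ZMod m) := by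
  obtain ⟨q, hq1, hq2, hq3⟩ := Nat.forall_exists_prime_gt_and_eq_mod u.isUnit (max N 2)
  exact ⟨q, hq2, lt_of_le_of_lt (le_max_left _ _) hq1, by have := le_max_right N 2; omega, hq3⟩

theorem fibre_unit {q : ℕ} {u : (ZMod m)ˣ} (hq : (q : ZMod m) = ((u⁻¹ : (ZMod m)ˣ) : ZMod m)) (k : ZMod m) :
    (Finset.univ.filter fun i : ZMod m => (q : ZMod m) * i = k) = {(u : ZMod m) * k} := by
  ext i
  simp only [Finset.mem_filter, Finset.mem_univ, true_and, Finset.mem_singleton, hq]
  constructor
  · rintro rfl; simp [← mul_assoc]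
  · rintro rfl; simp [← mul_assoc]

namespace Regular

variable (S : Regular G m)

include S in
/-- The multipliers permute the orbits. -/
theorem rel_smul (u : (ZMod m)ˣ) {i j : ZMod m} (h : Rel G (r i) (r j)) :
    Rel G (r ((u : ZMod m) * i)) (r ((u : ZMod m) * j)) := by
  classical
  have key : ∀ (u : (ZMod m)ˣ) (i j : ZMod m), Rel G (r i) (r j) →
      ∀ i' : ZMod m, (u : ZMod m) * i = i' → ∀ j', Rel G (r i') (r j') → (u : ZMod m) * j = j' ∨ Rel G (r i') (r ((u : ZMod m) * j)) := by
    intro u i j hij i' hi' j' _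
    obtain ⟨q, hq, -, hq2, hqu⟩ := exists_prime_unit u⁻¹ 0
    haveI := Fact.mk hq
    set x : Alg (ZMod q) m := ind fun d => Rel G (r i') d with hx
    have hxI : Inv G x := S.inv_ind fun a b hab h => h.trans hab
    have h1 := (hxI.pow q).rel hij
    rw [pow_coeff hq2 (S.sym hxI), pow_coeff hq2 (S.sym hxI), fibre_unit hqu, fibre_unit hqu,
      Finset.sum_singleton, Finset.sum_singleton, hx, ind_coeff, ind_coeff, hi', if_pos (Rel.refl _)] at h1
    by_contra hc
    push Not at hc
    rw [if_neg hc.2] at h1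
    exact one_ne_zero h1
  rcases key u i j h _ rfl _ (Rel.refl _) with e | e
  · rw [e]; exact Rel.refl _
  · exact e

end Regular

/-- Invariant with rotation part unchanged by the units. -/
structure RInv (G : Type*) [Group G] [MulAction G (DihedralGroup m)] (x : Alg R m) : Prop where
  inv : Inv G x
  unit : UnitInv fun i => x.coeff (r i)

namespace RInv

theorem one : RInv G (1 : Alg R m) := ⟨Inv.one, fun u i => by
  classical
  simp only [coeff_one, DihedralGroup.one_def, r.injEq]
  exact if_congr (by simp) rfl rfl⟩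

theorem allJ : RInv G (DihedralB.allJ : Alg R m) := ⟨Inv.allJ, fun u i => by simp⟩

theorem add {x y : Alg R m} (hx : RInv G x) (hy : RInv G y) : RInv G (x + y) :=
  ⟨hx.inv.add hy.inv, fun u i => by
    simp only [MonoidAlgebra.coeff_add, Finsupp.add_apply]; exact congrArg₂ _ (hx.unit u i) (hy.unit u i)⟩

theorem sub {x y : Alg R m} (hx : RInv G x) (hy : RInv G y) : RInv G (x - y) :=
  ⟨hx.inv.sub hy.inv, fun u i => by
    simp only [MonoidAlgebra.coeff_sub, Finsupp.sub_apply]; exact congrArg₂ _ (hx.unit u i) (hy.unit u i)⟩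

theorem smul (c : R) {x : Alg R m} (hx : RInv G x) : RInv G (c • x) :=
  ⟨hx.inv.smul c, fun u i => by
    simp only [MonoidAlgebra.coeff_smul, Finsupp.smul_apply]; exact congrArg _ (hx.unit u i)⟩

theorem mapR {T : Type*} [CommRing T] (f : R →+* T) {x : Alg R m} (hx : RInv G x) :
    RInv G (DihedralB.mapR f x) := ⟨hx.inv.mapR f, fun u i => by simpa using congrArg f (hx.unit u i)⟩

theorem mul (S : Regular G m) {x y : Alg ℤ m} (hx : RInv G x) (hy : RInv G y) : RInv G (x * y) := by
  classical
  refine ⟨hx.inv.mul hy.inv, fun u k => ?_⟩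
  set z := x * y
  obtain ⟨q, hq, hqN, hq2, hqu⟩ := exists_prime_unit u⁻¹ ((z.coeff (r ((u : ZMod m) * k)) - z.coeff (r k)).natAbs)
  haveI := Fact.mk hq
  have hfix : ∀ w : Alg ℤ m, RInv G w →
      DihedralB.mapR (Int.castRingHom (ZMod q)) w ^ q = DihedralB.mapR (Int.castRingHom (ZMod q)) w := fun w hw =>
    S.ext_C ((hw.inv.mapR _).pow q) (hw.inv.mapR _) fun i => by
      rw [pow_coeff hq2 (S.sym (hw.inv.mapR _)), fibre_unit hqu, Finset.sum_singleton]
      exact (hw.mapR _).unit u i
  have h1 : DihedralB.mapR (Int.castRingHom (ZMod q)) z ^ q = DihedralB.mapR (Int.castRingHom (ZMod q)) z := by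
    rw [map_mul, (S.commute (hx.inv.mapR _) (hy.inv.mapR _)).mul_pow, hfix x hx, hfix y hy]
  have h2 := congrArg (fun w : Alg (ZMod q) m => w.coeff (r k)) h1
  have hz : Inv G z := hx.inv.mul hy.inv
  rw [pow_coeff hq2 (S.sym (hz.mapR _)), fibre_unit hqu, Finset.sum_singleton, mapR_coeff, mapR_coeff,
    Int.coe_castRingHom, ZMod.intCast_eq_intCast_iff_dvd_sub] at h2
  rw [← Int.natAbs_dvd_natAbs, Int.natAbs_natCast, ← Int.natAbs_neg, neg_sub] at h2
  exact sub_eq_zero.1 (Int.natAbs_eq_zero.1 (Nat.eq_zero_of_dvd_of_lt h2 hqN))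

end RInv

/-- Zero-one coefficients. -/
def ZeroOne (x : Alg R m) : Prop := ∀ g, x.coeff g = 0 ∨ x.coeff g = 1

namespace Regular

variable (S : Regular G m)

include S in
theorem zeroOne_of_C {x : Alg R m} (hx : Inv G x) (h : ∀ i, x.coeff (r i) = 0 ∨ x.coeff (r i) = 1) : ZeroOne x :=
  fun g => by obtain ⟨i, hi⟩ := S.exists_rel g; rw [hx.rel hi]; exact h i

include S in
/-- The mod `p` reduction of the `p`-th power. -/
theorem pow_split_coeff {p : ℕ} [Fact p.Prime] (hp : p ≠ 2) (s : Split m p) {x : Alg ℤ m} (hx : RInv G x)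
    (k : ZMod m) [Decidable (s.Free k)] :
    ((mapR (Int.castRingHom (ZMod p)) x) ^ p).coeff (r k)
      = ((if s.Free k then x.coeff (r k) - x.coeff (r (k + s.h)) else 0 : ℤ) : ZMod p) := by
  rw [pow_coeff hp (S.sym (hx.inv.mapR _)),
    s.sum_fibre_eq (f := fun i => (mapR (Int.castRingHom (ZMod p)) x).coeff (r i)) (hx.mapR _).unit
      (fun c => by rw [nsmul_eq_mul, ZMod.natCast_self, zero_mul])]
  simp only [mapR_coeff, Int.coe_castRingHom]
  split_ifs <;> push_cast <;> rfl

include S in
/-- The invariant element whose rotation part is the difference along the subgroup of order `p`. -/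
theorem exists_diff {p : ℕ} (hp : p ≠ 2) (s : Split m p) {x : Alg ℤ m} (hx : RInv G x) (hx01 : ZeroOne x)
    [DecidablePred s.Free] :
    ∃ E : Alg ℤ m, RInv G E ∧
      ∀ i, E.coeff (r i) = if s.Free i then x.coeff (r i) - x.coeff (r (i + s.h)) else 0 := by
  haveI := Fact.mk s.prime
  set f : ZMod m → ℤ := fun i => if s.Free i then x.coeff (r i) - x.coeff (r (i + s.h)) else 0 with hf
  have hbd : ∀ i, (f i).natAbs ≤ 1 := fun i => by
    simp only [hf]
    rcases hx01 (r i) with h1 | h1 <;> rcases hx01 (r (i + s.h)) with h2 | h2 <;> split_ifs <;> simp [h1, h2]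
  obtain ⟨E, hE, hEf⟩ := S.exists_ext f fun i j hij => by
    have h1 := ((hx.inv.mapR (Int.castRingHom (ZMod p))).pow p).rel hij
    rw [S.pow_split_coeff hp s hx, S.pow_split_coeff hp s hx, ZMod.intCast_eq_intCast_iff_dvd_sub,
      ← Int.natAbs_dvd_natAbs, Int.natAbs_natCast] at h1
    change p ∣ (f j - f i).natAbs at h1
    have := hbd i; have := hbd j; have := s.prime.two_le
    have h3 : (f j - f i).natAbs ≤ 2 := (Int.natAbs_sub_le _ _).trans (Nat.add_le_add (hbd j) (hbd i))
    exact (sub_eq_zero.1 (Int.natAbs_eq_zero.1 (Nat.eq_zero_of_dvd_of_lt h1 (by omega)))).symm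
  refine ⟨E, ⟨hE, fun u i => ?_⟩, hEf⟩
  simp only [hEf, hf]
  by_cases hi : s.Free i
  · rw [if_pos (s.free_mul hi _), if_pos hi]
    congr 1
    · exact hx.unit u i
    · obtain ⟨c, hc, hch⟩ : ∃ c : ℕ, ¬ p ∣ c ∧ (u : ZMod m) * s.h = (c : ZMod m) * s.h :=
        ⟨(u : ZMod m).val, fun hd => by
          have h0 := (s.cast_mul_h_eq_zero _).2 hd
          rw [ZMod.natCast_zmod_val] at h0
          exact s.h_ne_zero (u.mul_right_eq_zero.1 h0), by rw [ZMod.natCast_zmod_val]⟩
      have h1 := hx.unit u (i + s.h)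
      simp only [mul_add, hch] at h1
      rw [← h1]
      exact (s.apply_free_add hx.unit (s.free_mul hi _) hc).symm
  · rw [if_neg (fun h => hi (by simpa [← mul_assoc] using s.free_mul h ((u⁻¹ : (ZMod m)ˣ) : ZMod m))), if_neg hi]

end Regular

end Cfsg.Agent.Perm.DihedralB
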