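import Mathlib
import Cfsg.Agent.Lib.Perm.DihedralB.Frobenius

/-!
Invariant elements whose reflection part is periodic modulo the subgroup of prime order are constant off `1`,
and invariant sets with periodic rotation part square to `σ + μ J`.
-/

set_option autoImplicit false
set_option maxHeartbeats 1000000

namespace Cfsg.Agent.Perm.DihedralB

open DihedralGroup MonoidAlgebra MulAction

variable {m : ℕ} [NeZero m] {R : Type*} [CommRing R]
variable {G : Type*} [Group G] [MulAction G (DihedralGroup m)]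

/-- Periodic rotation part. -/
def CPer (h : ZMod m) (x : Alg R m) : Prop := ∀ i, x.coeff (r (i + h)) = x.coeff (r i)

/-- Periodic reflection part. -/
def EPer (h : ZMod m) (x : Alg R m) : Prop := ∀ i, x.coeff (sr (i + h)) = x.coeff (sr i)

/-- Constant off `1`. -/
def OffConst (x : Alg R m) : Prop := ∀ g g', g ≠ 1 → g' ≠ 1 → x.coeff g = x.coeff g'

theorem r_ne_one {i : ZMod m} : (r i : DihedralGroup m) ≠ 1 ↔ i ≠ 0 := by
  rw [Ne, DihedralGroup.one_def, r.injEq]

theorem sr_ne_one (i : ZMod m) : (sr i : DihedralGroup m) ≠ 1 := fun h => by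
  rw [DihedralGroup.one_def] at h; cases h

namespace Regular

variable (S : Regular G m)

include S in
theorem const_of_per {x : Alg R m} (hx : Inv G x) {h : ZMod m} (hh : h ≠ 0) (hc : CPer h x) (he : EPer h x)
    (g : DihedralGroup m) : x.coeff g = x.coeff 1 :=
  S.const_of_period hx (h := r h) (r_ne_one.2 hh) (fun c => by
    cases c with
    | r i => rw [r_mul_r, add_comm]; exact hc i
    | sr i => rw [r_mul_sr, ← he (i - h), sub_add_cancel]) g

end Regular

omit [NeZero m] in
theorem add_self_two {r : ZMod 2} : r + r = 0 := CharTwo.add_self_eq_zero r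

/-- The mod `2` square. -/
theorem Regular.sq_two (S : Regular G m) {y : Alg (ZMod 2) m} (hy : Inv G y) (ht : tot y = 0) (k : ZMod m) :
    ∑ i with (2 : ZMod m) * i = k, y.coeff (r i) = ∑ i, y.coeff (sr i) * y.coeff (sr (i + k)) := by
  have hsr : InC (y * y) := fun j => by
    have h1 := congrArg (fun w : Alg (ZMod 2) m => w.coeff (sr j)) (epart_mul y y)
    simp only [epart_sr, MonoidAlgebra.coeff_add, Finsupp.add_apply,
      ← (commute_cpart_epart (S.sym hy)).eq] at h1
    rw [h1, add_self_two]
  have hoff : ∀ g, g ≠ 1 → (y * y).coeff g = 0 := fun g hg => S.eq_zero_of_inC (hy.mul hy) hsr hg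
  have h1 : (y * y).coeff 1 = 0 := by
    have h2 : tot (y * y) = 0 := by rw [map_mul, ht, mul_zero]
    rwa [tot_eq, Finset.sum_eq_single 1 (fun g _ hg => hoff g hg) (fun h => absurd (Finset.mem_univ _) h)] at h2
  have h3 : (y * y).coeff (r k) = 0 := by
    by_cases hk : k = 0
    · subst hk; rw [← DihedralGroup.one_def]; exact h1
    · exact hoff _ (r_ne_one.2 hk)
  have hc := congrArg (fun w : Alg (ZMod 2) m => w.coeff (r k)) (cpart_mul y y)
  simp only [cpart_r, MonoidAlgebra.coeff_add, Finsupp.add_apply, ← pow_two] at hc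
  rw [← pow_two] at h3
  rw [h3, inC_pow_coeff (inC_cpart y)] at hc
  have he : (epart y ^ 2).coeff (r k) = ∑ i, y.coeff (sr i) * y.coeff (sr (i + k)) := by
    rw [pow_two, coeff_mul_r]; simp
  rw [he] at hc
  simp only [cpart_r, Nat.cast_ofNat] at hc
  exact CharTwo.add_eq_zero.1 hc.symm

/-- The zero-one lift of an element over `ZMod 2`. -/
noncomputable def lift01 (y : Alg (ZMod 2) m) : Alg ℤ m := ofFun fun g => if y.coeff g = 1 then 1 else 0

theorem zeroOne_lift01 (y : Alg (ZMod 2) m) : ZeroOne (lift01 y) := fun g => by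
  simp only [lift01, coeff_ofFun]; split_ifs <;> simp

theorem mapR_lift01 (y : Alg (ZMod 2) m) : mapR (Int.castRingHom (ZMod 2)) (lift01 y) = y := by
  refine alg_ext fun g => ?_
  simp only [mapR_coeff, lift01, coeff_ofFun]
  generalize y.coeff g = c
  revert c
  decide

theorem rInv_lift01 (S : Regular G m) {y : Alg (ZMod 2) m} (hy : RInv G y) : RInv G (lift01 y) := by
  refine ⟨S.inv_of_const fun u v huv => ?_, fun u i => ?_⟩
  · simp only [lift01, coeff_ofFun, hy.inv.rel huv]
  · simp only [lift01, coeff_ofFun, show y.coeff (r (↑u * i)) = y.coeff (r i) from hy.unit u i]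

/-- No invariant set has `z`-periodic rotation part, except the empty set and everything. -/
def NoZ (G : Type*) [Group G] (m : ℕ) [NeZero m] [MulAction G (DihedralGroup m)] : Prop :=
  ∀ (s₂ : Split m 2) (x : Alg ℤ m), RInv G x → ZeroOne x → CPer s₂.h x → ∀ g, x.coeff g = x.coeff 1

/-- Periodic reflection part forces constancy off `1`, modulo `2`. -/
def Rev (G : Type*) [Group G] {m p : ℕ} [NeZero m] [MulAction G (DihedralGroup m)] (s : Split m p) : Prop :=
  ∀ y : Alg (ZMod 2) m, RInv G y → EPer s.h y → OffConst y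

variable {p : ℕ} (s : Split m p)

theorem rev_of_reduced (S : Regular G m)
    (hred : ∀ y : Alg (ZMod 2) m, RInv G y → EPer s.h y → tot y = 0 → CPer s.h y) : Rev G s := by
  intro y hy he
  set y' := y + tot y • 1 with hy'
  have h1 : RInv G y' := hy.add (RInv.one.smul _)
  have hsr : ∀ i, y'.coeff (sr i) = y.coeff (sr i) := fun i => by
    simp [hy', coeff_one, sr_ne_one]
  have he' : EPer s.h y' := fun i => by rw [hsr, hsr]; exact he i
  have ht : tot y' = 0 := by rw [hy', map_add, map_smul, map_one, smul_eq_mul, mul_one, add_self_two]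
  have hc := S.const_of_per h1.inv s.h_ne_zero (hred y' h1 he' ht) he'
  intro g g' hg hg'
  have h2 : y'.coeff g = y'.coeff g' := (hc g).trans (hc g').symm
  simpa [hy', coeff_one, hg, hg'] using h2

theorem Regular.rev_two (S : Regular G m) (s : Split m 2) : Rev G s := by
  refine rev_of_reduced s S fun y hy he ht i => ?_
  have h1 := S.sq_two hy.inv ht ((2 : ZMod m) * i)
  have hz : ((2 : ℕ) : ZMod m) * i = (2 : ZMod m) * i := by simp
  rw [show (∑ j, y.coeff (sr j) * y.coeff (sr (j + (2 : ZMod m) * i))) = 0 from ?_, show ((2 : ZMod m)) = ((2 : ℕ) : ZMod m) by simp] at h1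
  · rw [s.sum_fibre (fun j => y.coeff (r j)) (i₀ := i) rfl] at h1
    simp only [Finset.sum_range_succ, Finset.sum_range_zero, zero_add, Nat.cast_zero, zero_mul, add_zero,
      Nat.cast_one, one_mul] at h1
    exact (CharTwo.add_eq_zero.1 h1).symm
  · refine Finset.sum_involution (fun j _ => j + s.h) (fun j _ => ?_) (fun j _ _ => ?_) (fun j _ => Finset.mem_univ _)
      (fun j _ => ?_)
    · rw [he j, add_right_comm, he (j + _)]; exact add_self_two
    · intro e; exact s.h_ne_zero (by simpa using e)
    · rw [add_assoc, ← two_mul, show (2 : ZMod m) * s.h = 0 by exact_mod_cast s.p_mul_h, add_zero]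

theorem Regular.rev_odd (S : Regular G m) (hm : ¬ 2 ∣ m) : Rev G s := by
  refine rev_of_reduced s S fun y hy he ht i => ?_
  have hu : IsUnit (2 : ZMod m) := by
    have := (ZMod.isUnit_iff_coprime 2 m).2 ((Nat.Prime.coprime_iff_not_dvd Nat.prime_two).2 hm)
    simpa using this
  have key : ∀ j, y.coeff (r j) = ∑ l, y.coeff (sr l) * y.coeff (sr (l + (2 : ZMod m) * j)) := fun j => by
    rw [← S.sq_two hy.inv ht]
    rw [show (Finset.univ.filter fun l : ZMod m => (2 : ZMod m) * l = 2 * j) = {j} by
      ext l; simp [hu.mul_right_inj], Finset.sum_singleton]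
  rw [key, key]
  refine Finset.sum_congr rfl fun l _ => ?_
  rw [mul_add, two_mul s.h, ← add_assoc, ← add_assoc, he, he]

theorem Regular.rev_even (S : Regular G m) (hp : p ≠ 2) (s₂ : Split m 2) (hZ : NoZ G m) : Rev G s := by
  classical
  refine rev_of_reduced s S fun y hy he ht => ?_
  set D : ZMod m → ZMod 2 := fun i => y.coeff (r i) + y.coeff (r (i + s₂.h)) with hD
  have key : ∀ i, D i = ∑ l, y.coeff (sr l) * y.coeff (sr (l + (2 : ZMod m) * i)) := fun i => by
    rw [← S.sq_two hy.inv ht, show ((2 : ZMod m)) = ((2 : ℕ) : ZMod m) by simp,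
      s₂.sum_fibre (fun j => y.coeff (r j)) (i₀ := i) rfl]
    simp [Finset.sum_range_succ, hD]
  have hDper : ∀ i, D (i + s.h) = D i := fun i => by
    rw [key, key]
    refine Finset.sum_congr rfl fun l _ => ?_
    rw [mul_add, two_mul s.h, ← add_assoc, ← add_assoc, he, he]
  have hzfree : s.Free s₂.h := by
    refine (s₂.cast_mul_h_eq_zero s.m').2 ?_
    have h2 : 2 ∣ p ^ (s.n + 1) * s.m' := s.eq ▸ s₂.dvd
    exact (Nat.prime_two.dvd_mul.1 h2).resolve_left fun h =>
      hp ((Nat.prime_dvd_prime_iff_eq Nat.prime_two s.prime).1 (Nat.prime_two.dvd_of_dvd_pow h)).symm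
  obtain ⟨E, hE, hEc⟩ := S.exists_diff hp s (rInv_lift01 S hy) (zeroOne_lift01 y)
  set e := mapR (Int.castRingHom (ZMod 2)) E with he'
  have hecoeff : ∀ i, e.coeff (r i) = if s.Free i then y.coeff (r i) + y.coeff (r (i + s.h)) else 0 := fun i => by
    rw [he', mapR_coeff, hEc]
    split_ifs
    · rw [map_sub, ← mapR_coeff, ← mapR_coeff, mapR_lift01, CharTwo.sub_eq_add]
    · rw [map_zero]
  have hez : CPer s₂.h (lift01 e) := fun i => by
    simp only [lift01, coeff_ofFun, hecoeff]
    by_cases hi : s.Free i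
    · rw [if_pos (s.free_add hi hzfree), if_pos hi]
      congr 1
      have h1 := hDper i
      simp only [hD] at h1
      rw [show i + s₂.h + s.h = i + s.h + s₂.h by ring]
      generalize y.coeff (r i) = a at h1 ⊢
      generalize y.coeff (r (i + s.h)) = b at h1 ⊢
      generalize y.coeff (r (i + s₂.h)) = c at h1 ⊢
      generalize y.coeff (r (i + s.h + s₂.h)) = d at h1 ⊢
      revert a b c d
      decide
    · have hi' : ¬ s.Free (i + s₂.h) := fun h => hi (by
        have := s.free_add h hzfree
        rwa [add_assoc, ← two_mul, show (2 : ZMod m) * s₂.h = 0 by exact_mod_cast s₂.p_mul_h, add_zero] at this)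
      rw [if_neg hi', if_neg hi]
  have hconst : ∀ g, e.coeff g = e.coeff 1 := fun g => by
    have h1 := hZ s₂ _ (rInv_lift01 S (hE.mapR _)) (zeroOne_lift01 e) hez g
    rw [← mapR_lift01 e, mapR_coeff, mapR_coeff, h1]
  refine s.periodic hy.unit fun i hi => ?_
  have h1 := (hconst (r i)).trans (hconst (r s.h)).symm
  rw [hecoeff, hecoeff, if_pos hi, if_neg s.not_free_h] at h1
  exact (CharTwo.add_eq_zero.1 h1).symm

/-- Lifting from `ZMod 2` to `ℤ`. -/
theorem offConst_of_ePer (S : Regular G m) (hR : Rev G s) {M : Alg ℤ m} (hM : RInv G M) (he : EPer s.h M) :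
    OffConst M := by
  classical
  haveI : Nontrivial (ZMod m) := ZMod.nontrivial_iff.2 (by have := S.one_lt; omega)
  set g₀ : DihedralGroup m := r 1
  have hg₀ : g₀ ≠ 1 := r_ne_one.2 one_ne_zero
  have key : ∀ (j : ℕ) (M : Alg ℤ m), RInv G M → EPer s.h M → ∀ g g', g ≠ 1 → g' ≠ 1 →
      (2 : ℤ) ^ j ∣ M.coeff g - M.coeff g' := by
    intro j
    induction j with
    | zero => intro M _ _ g g' _ _; simp
    | succ j ih =>
      intro M hM he g g' hg hg'
      have h2 : ∀ g, g ≠ 1 → (2 : ℤ) ∣ M.coeff g - M.coeff g₀ := fun g hg => by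
        have h := hR _ (hM.mapR (Int.castRingHom (ZMod 2)))
          (fun i => by rw [mapR_coeff, mapR_coeff, he i]) g g₀ hg hg₀
        rw [mapR_coeff, mapR_coeff, eq_intCast, eq_intCast, ZMod.intCast_eq_intCast_iff_dvd_sub] at h
        rw [← neg_sub]; exact_mod_cast (dvd_neg.2 h)
      set N : Alg ℤ m := ofFun fun g => if g = 1 then 0 else (M.coeff g - M.coeff g₀) / 2 with hN
      have hNR : RInv G N := ⟨S.inv_of_const fun u v huv => by
          simp only [hN, coeff_ofFun, hM.inv.rel huv]
          exact if_congr ⟨fun h => (h ▸ huv).one_left, fun h => (h ▸ huv.symm).one_left⟩ rfl rfl,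
        fun u i => by
          simp only [hN, coeff_ofFun, DihedralGroup.one_def, r.injEq,
            show M.coeff (r ((u : ZMod m) * i)) = M.coeff (r i) from hM.unit u i]
          exact if_congr u.mul_right_eq_zero rfl rfl⟩
      have hNe : EPer s.h N := fun i => by simp [hN, sr_ne_one, he i]
      have h3 := mul_dvd_mul_left (2 : ℤ) (ih N hNR hNe g g' hg hg')
      rw [hN, coeff_ofFun, coeff_ofFun, if_neg hg, if_neg hg', mul_sub, Int.mul_ediv_cancel' (h2 g hg),
        Int.mul_ediv_cancel' (h2 g' hg'), sub_sub_sub_cancel_right, ← pow_succ'] at h3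
      exact h3
  intro g g' hg hg'
  refine sub_eq_zero.1 (Int.eq_zero_of_dvd_of_natAbs_lt_natAbs
    (key ((M.coeff g - M.coeff g').natAbs) M hM he g g' hg hg') ?_)
  rw [Int.natAbs_pow]
  exact Nat.lt_two_pow_self

/-- `x² = σ + μ J`. -/
structure Design (x : Alg ℤ m) (σ μ : ℤ) : Prop where
  eq : x * x = σ • 1 + μ • allJ
  diag : tot x = σ + μ
  tot_sq : tot x ^ 2 = σ + μ * (2 * m)
  sgn_sq : sgn x ^ 2 = σ

theorem exists_design (S : Regular G m) (hR : Rev G s) {x : Alg ℤ m} (hx : RInv G x) (h01 : ZeroOne x)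
    (hc : CPer s.h x) : ∃ σ μ, Design x σ μ := by
  classical
  haveI : Nontrivial (ZMod m) := ZMod.nontrivial_iff.2 (by have := S.one_lt; omega)
  have he : EPer s.h (x * x) := fun k => by
    have hflip : ∀ k : ZMod m, (x * x).coeff (sr k) = ∑ i, x.coeff (r i) * x.coeff (sr (k + i)) * 2 := fun k => by
      rw [coeff_mul_sr]
      simp only [mul_two, Finset.sum_add_distrib]
      congr 1
      refine Fintype.sum_equiv (Equiv.subRight k) _ _ fun i => ?_
      rw [Equiv.subRight_apply, add_sub_cancel, ← S.sym hx.inv (i - k), neg_sub, mul_comm]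
    rw [hflip, hflip]
    refine Fintype.sum_equiv (Equiv.addRight s.h) _ _ fun i => ?_
    simp only [Equiv.coe_addRight, hc i, add_right_comm k s.h i, ← add_assoc]
  have hoff := offConst_of_ePer s S hR (RInv.mul S hx hx) he
  set μ := (x * x).coeff (r (1 : ZMod m)) with hμ
  set σ := (x * x).coeff 1 - μ with hσ
  have heq : x * x = σ • 1 + μ • allJ := by
    refine alg_ext fun g => ?_
    rcases eq_or_ne g 1 with rfl | hg
    · simp only [MonoidAlgebra.coeff_add, MonoidAlgebra.coeff_smul, Finsupp.add_apply, Finsupp.smul_apply, coeff_one,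
        allJ_coeff, smul_eq_mul, mul_one, if_pos, hσ, sub_add_cancel]
    · simp only [MonoidAlgebra.coeff_add, MonoidAlgebra.coeff_smul, Finsupp.add_apply, Finsupp.smul_apply, coeff_one,
        allJ_coeff, smul_eq_mul, mul_one, if_neg hg, mul_zero, zero_add]
      exact hoff g _ hg (r_ne_one.2 one_ne_zero)
  have hdiag : (x * x).coeff 1 = tot x := by
    rw [coeff_mul_sum, tot_eq]
    refine Finset.sum_congr rfl fun g _ => ?_
    rw [mul_one, S.coeff_inv hx.inv]
    rcases h01 g with h | h <;> simp [h]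
  refine ⟨σ, μ, heq, by rw [hσ, hdiag]; ring, ?_, ?_⟩
  · rw [pow_two, ← map_mul, heq, map_add, map_smul, map_smul, map_one, tot_eq]
    simp [two_mul, DihedralGroup.card]
  · rw [pow_two, ← map_mul, heq, map_add, map_smul, map_smul, map_one, sgn_eq]
    simp

end Cfsg.Agent.Perm.DihedralB
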