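import Mathlib
import Cfsg.Agent.Lib.Perm.DihedralB.Rev

/-!
Consequences of `x² = σ + μ J`: the cubic equation of the rotation part and the bound coming from a
period of odd prime order.
-/

set_option autoImplicit false
set_option maxHeartbeats 1000000

namespace Cfsg.Agent.Perm.DihedralB

open DihedralGroup MonoidAlgebra MulAction

variable {m : ℕ} [NeZero m] {R : Type*} [CommRing R]

attribute [-simp] zsmul_eq_mul nsmul_eq_mul zsmul_one

/-- All rotations. -/
noncomputable def JC : Alg R m := cpart allJ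

/-- All reflections. -/
noncomputable def JE : Alg R m := epart allJ

theorem inC_JC : InC (JC : Alg R m) := inC_cpart _

@[simp] theorem JC_r (i : ZMod m) : (JC : Alg R m).coeff (r i) = 1 := by simp [JC]

/-- Number of rotations in the element. -/
noncomputable def sumR (x : Alg R m) : R := ∑ i, x.coeff (r i)

/-- Number of reflections in the element. -/
noncomputable def sumS (x : Alg R m) : R := ∑ i, x.coeff (sr i)

theorem tot_eq' (x : Alg R m) : tot x = sumR x + sumS x := by rw [tot_eq, sum_dihedral]; rfl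

theorem sgn_eq' (x : Alg R m) : sgn x = sumR x - sumS x := sgn_eq x

theorem inC_smul (c : R) {x : Alg R m} (hx : InC x) : InC (c • x) := fun i => by simp [hx i]

theorem inC_sub {x y : Alg R m} (hx : InC x) (hy : InC y) : InC (x - y) := fun i => by simp [hx i, hy i]

theorem mul_JC {x : Alg R m} (hx : InC x) : x * JC = sumR x • JC := by
  refine alg_ext' (fun k => ?_) fun k => ?_
  · rw [coeff_mul_r]; simp [hx _, sumR]
  · rw [(hx.mul inC_JC) k]; simp [inC_JC _]

theorem JE_mul_epart (x : Alg R m) : JE * epart x = sumS x • JC := by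
  refine alg_ext' (fun k => ?_) fun k => ?_
  · rw [coeff_mul_r]
    simp only [JE, epart_r, epart_sr, allJ_coeff, zero_mul, Finset.sum_const_zero, zero_add, one_mul,
      MonoidAlgebra.coeff_smul, Finsupp.smul_apply, JC_r, smul_eq_mul, mul_one, sumS]
    exact Fintype.sum_equiv (Equiv.addRight k) _ _ fun i => rfl
  · rw [JE, ((inE_epart (allJ : Alg R m)).mul (inE_epart x)) k]; simp [inC_JC _]

theorem sumR_JC : sumR (JC : Alg R m) = m := by simp [sumR]

theorem sumS_JC : sumS (JC : Alg R m) = 0 := by simp [sumS, inC_JC _]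

theorem Sym.smul (c : R) {x : Alg R m} (hx : Sym x) : Sym (c • x) := fun i => by simp [hx i]

theorem Sym.sub {x y : Alg R m} (hx : Sym x) (hy : Sym y) : Sym (x - y) := fun i => by simp [hx i, hy i]

theorem Sym.mul {x y : Alg R m} (hx : Sym x) (hy : Sym y) (hxC : InC x) (hyC : InC y) : Sym (x * y) := fun k => by
  simp only [coeff_mul_r, hxC _, hyC _, zero_mul, Finset.sum_const_zero, add_zero]
  refine Fintype.sum_equiv (Equiv.neg _) _ _ fun i => ?_
  rw [Equiv.neg_apply, hx i, ← hy (k - -i)]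
  congr 3
  ring

variable {x : Alg ℤ m} {σ μ : ℤ}

theorem Design.cubic (D : Design x σ μ) (hs : Sym x) :
    ∃ c : ℤ, (2 : ℤ) • (cpart x * cpart x * cpart x) = (2 * σ) • cpart x + c • (JC : Alg ℤ m) := by
  set α := cpart x
  set ε := epart x
  have h1 : α * α + ε * ε = σ • 1 + μ • JC := by
    rw [← cpart_mul, D.eq]
    refine alg_ext' (fun i => ?_) fun i => ?_
    · simp [JC, coeff_one]
    · simp [inC_JC _, coeff_one, sr_ne_one]
  have h2 : (2 : ℤ) • (α * ε) = μ • JE := by
    have h3 := (commute_cpart_epart hs).eq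
    have h4 : α * ε + ε * α = μ • JE := by
      rw [← epart_mul, D.eq]
      refine alg_ext' (fun i => ?_) fun i => ?_
      · simp [JE]
      · simp [JE, coeff_one, sr_ne_one]
    rw [← h4, ← h3, two_smul]
  refine ⟨2 * μ * sumR α - μ * sumS x, ?_⟩
  calc (2 : ℤ) • (α * α * α) = (2 : ℤ) • (α * (σ • 1 + μ • JC - ε * ε)) := by
        rw [← h1, add_sub_cancel_right, mul_assoc]
    _ = (2 * σ) • α + (2 * μ) • (α * JC) - ((2 : ℤ) • (α * ε)) * ε := by
        simp only [mul_sub, mul_add, mul_smul_comm, mul_one, smul_sub, smul_add, smul_smul, smul_mul_assoc, mul_assoc]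
    _ = _ := by
        rw [h2, smul_mul_assoc, JE_mul_epart, mul_JC (inC_cpart x), smul_smul, smul_smul, sub_smul]
        abel

theorem sumR_cpart (x : Alg R m) : sumR (cpart x) = sumR x := by simp [sumR]

theorem Design.sum_cubic (D : Design x σ μ) (hs : Sym x) {c : ℤ}
    (hc : (2 : ℤ) • (cpart x * cpart x * cpart x) = (2 * σ) • cpart x + c • (JC : Alg ℤ m)) :
    2 * sumR x ^ 3 = 2 * σ * sumR x + c * m := by
  have h := congrArg tot hc
  have e : tot (cpart x) = sumR x := by rw [tot_eq', sumR_cpart]; simp [sumS]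
  have e' : tot (JC : Alg ℤ m) = (m : ℤ) := by rw [tot_eq', sumR_JC, sumS_JC, add_zero]
  simp only [map_smul, map_add, map_mul, e, e', smul_eq_mul] at h
  linear_combination h

theorem JC_sq : (JC : Alg R m) * JC = (m : R) • JC := by rw [mul_JC inC_JC, sumR_JC]

/-- The indicator of the multiples of the element of order `p`. -/
noncomputable def perInd {p : ℕ} (_s : Split m p) : Alg ℤ m :=
  ofFun fun g => match g with | r i => if (p : ZMod m) * i = 0 then 1 else 0 | sr _ => 0

section Bound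

variable {p : ℕ} (s : Split m p)

theorem inC_perInd : InC (perInd s) := fun i => by simp [perInd]

theorem sym_perInd : Sym (perInd s) := fun i => by simp [perInd]

theorem cPer_perInd : CPer s.h (perInd s) := fun i => by
  simp [perInd, mul_add, s.p_mul_h]

theorem mul_perInd {y : Alg ℤ m} (hy : InC y) (hper : CPer s.h y) : y * perInd s = (p : ℤ) • y := by
  classical
  refine alg_ext' (fun k => ?_) fun k => ?_
  · rw [coeff_mul_r]
    simp only [hy _, zero_mul, Finset.sum_const_zero, add_zero, perInd, coeff_ofFun, mul_ite, mul_one, mul_zero,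
      MonoidAlgebra.coeff_smul, Finsupp.smul_apply]
    rw [← Finset.sum_filter, show (Finset.univ.filter fun i : ZMod m => (p : ZMod m) * (k - i) = 0)
      = Finset.univ.filter (fun i : ZMod m => (p : ZMod m) * i = (p : ZMod m) * k) by
        ext i; simp [mul_sub, sub_eq_zero, eq_comm],
      s.sum_fibre (fun i => y.coeff (r i)) (i₀ := k) rfl]
    have hval : ∀ c : ℕ, y.coeff (r (k + (c : ZMod m) * s.h)) = y.coeff (r k) := by
      intro c
      induction c with
      | zero => simp
      | succ c ih => rw [Nat.cast_succ, add_mul, one_mul, ← add_assoc, hper, ih]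
    simp [hval]
  · rw [(hy.mul (inC_perInd s)) k]; simp [hy k]

theorem Design.bound (D : Design x σ μ) (hs : Sym x) (h01 : ZeroOne x) (hper : CPer s.h x) (hσ : 0 < σ) :
    (p : ℤ) * (sumR x * (m - sumR x)) ≤ σ * (m - p) := by
  classical
  set α := cpart x with hα
  set A := sumR x with hA
  set α₀ : Alg ℤ m := (m : ℤ) • α - A • JC with hα₀
  have hαC : InC α := inC_cpart x
  have hαJ : α * JC = A • JC := by rw [mul_JC hαC, sumR_cpart]
  have hC0 : InC α₀ := inC_sub (inC_smul _ hαC) (inC_smul _ inC_JC)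
  have h0J : α₀ * JC = 0 := by
    rw [hα₀, sub_mul, smul_mul_assoc, smul_mul_assoc, hαJ, JC_sq, smul_smul, smul_smul, mul_comm, sub_self]
  obtain ⟨c, hc⟩ := D.cubic hs
  have hcube : α₀ * α₀ * α₀ = ((m : ℤ) ^ 2 * σ) • α₀ := by
    have h1 : α₀ * α₀ = (m : ℤ) • (α₀ * α) := by
      conv_lhs => arg 2; rw [hα₀]
      rw [mul_sub, mul_smul_comm, mul_smul_comm, h0J, smul_zero, sub_zero]
    have h2 : α₀ * α₀ * α₀ = (m : ℤ) ^ 2 • (α₀ * α * α) := by
      have h3 : α₀ * α * JC = 0 := by
        rw [mul_assoc, hαJ, mul_smul_comm, h0J, smul_zero]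
      rw [h1, smul_mul_assoc, hα₀, mul_sub, mul_smul_comm, mul_smul_comm, ← hα₀, h3, smul_zero, sub_zero,
        smul_smul, pow_two]
    obtain ⟨k, hk⟩ : ∃ k : ℤ, (2 : ℤ) • (α₀ * α * α) = (2 * σ) • α₀ + k • (JC : Alg ℤ m) := by
      have h4 : (JC : Alg ℤ m) * α * α = (A * A) • JC := by
        rw [((inC_JC).commute hαC).eq, hαJ, smul_mul_assoc, ((inC_JC).commute hαC).eq, hαJ, smul_smul]
      refine ⟨(m : ℤ) * c - 2 * (A * (A * A)) + 2 * σ * A, ?_⟩
      rw [hα₀, sub_mul, sub_mul, smul_mul_assoc, smul_mul_assoc, smul_mul_assoc, smul_mul_assoc, h4, smul_sub,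
        smul_comm (2 : ℤ) (m : ℤ), hc]
      module
    have hk0 : k = 0 := by
      have h5 := congrArg (fun w : Alg ℤ m => (w * JC).coeff (r 0)) hk
      simp only [add_mul, smul_mul_assoc, h0J, smul_zero, zero_add, JC_sq, mul_assoc α₀, mul_assoc α, hαJ,
        mul_smul_comm, smul_smul] at h5
      simp only [MonoidAlgebra.coeff_zero, Finsupp.zero_apply, MonoidAlgebra.coeff_smul, Finsupp.smul_apply, JC_r,
        smul_eq_mul, mul_one] at h5
      exact (mul_eq_zero.1 h5.symm).resolve_right (Nat.cast_ne_zero.2 (NeZero.ne m))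
    rw [hk0, zero_smul, add_zero] at hk
    rw [h2]
    refine alg_ext fun g => mul_left_cancel₀ (two_ne_zero (α := ℤ)) ?_
    have h6 := congrArg (fun w : Alg ℤ m => (m : ℤ) ^ 2 * w.coeff g) hk
    simp only [MonoidAlgebra.coeff_smul, Finsupp.smul_apply, smul_eq_mul] at h6 ⊢
    linear_combination h6
  set e := α₀ * α₀ with he
  set P := perInd s with hP
  have hJper : CPer s.h (JC : Alg ℤ m) := fun i => by simp
  have h0per : CPer s.h α₀ := fun i => by simp [hα₀, hα, hper i]
  have heP : e * P = (p : ℤ) • e := by rw [he, mul_assoc, mul_perInd s hC0 h0per, mul_smul_comm]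
  have heJ : e * JC = 0 := by rw [he, mul_assoc, h0J, mul_zero]
  set Gm : Alg ℤ m := (m : ℤ) • P - (p : ℤ) • JC with hGm
  have heG : e * Gm = ((m : ℤ) * p) • e := by
    rw [hGm, mul_sub, mul_smul_comm, mul_smul_comm, heP, heJ, smul_zero, sub_zero, smul_smul]
  have hPC := inC_perInd s
  have hGe : Gm * e = ((m : ℤ) * p) • e := by
    rw [((inC_sub (inC_smul _ hPC) (inC_smul _ inC_JC)).commute (hC0.mul hC0)).eq, heG]
  have hGG : Gm * Gm = ((m : ℤ) * p) • Gm := by
    have hJP : (JC : Alg ℤ m) * P = (p : ℤ) • JC := mul_perInd s inC_JC hJper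
    have hPJ : P * JC = (p : ℤ) • (JC : Alg ℤ m) := by rw [(hPC.commute inC_JC).eq, hJP]
    have hPP : P * P = (p : ℤ) • P := mul_perInd s hPC (cPer_perInd s)
    simp only [hGm, sub_mul, mul_sub, smul_mul_assoc, mul_smul_comm, hJP, hPJ, hPP, JC_sq, smul_smul]
    module
  have hee : e * e = ((m : ℤ) ^ 2 * σ) • e := by
    rw [he, ← mul_assoc, hcube, smul_mul_assoc]
  set F : Alg ℤ m := ((m : ℤ) ^ 2 * σ) • Gm - ((p : ℤ) * m) • e with hF
  have hFF : F * F = ((m : ℤ) ^ 3 * p * σ) • F := by
    simp only [hF, sub_mul, mul_sub, smul_mul_assoc, mul_smul_comm, hGG, heG, hGe, hee, smul_smul]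
    module
  have hs0 : Sym α₀ := Sym.sub (Sym.smul _ fun i => by simp [hα, hs i]) (Sym.smul _ fun i => by simp)
  have hFs : Sym F := Sym.sub (Sym.smul _ (Sym.sub (Sym.smul _ (sym_perInd s)) (Sym.smul _ fun i => by simp)))
    (Sym.smul _ (Sym.mul hs0 hs0 hC0 hC0))
  have hFC : InC F := inC_sub (inC_smul _ (inC_sub (inC_smul _ hPC) (inC_smul _ inC_JC)))
    (inC_smul _ (hC0.mul hC0))
  have hF0 : 0 ≤ F.coeff (r 0) := by
    have h1 : 0 ≤ (F * F).coeff (r 0) := by
      rw [coeff_mul_r]
      refine add_nonneg (Finset.sum_nonneg fun i _ => ?_) (Finset.sum_nonneg fun i _ => ?_)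
      · rw [zero_sub, hFs i]; exact mul_self_nonneg _
      · rw [hFC i, zero_mul]
    rw [hFF, MonoidAlgebra.coeff_smul, Finsupp.smul_apply, smul_eq_mul] at h1
    have hpos : 0 < (m : ℤ) ^ 3 * p * σ := by
      have : (0 : ℤ) < m := by exact_mod_cast Nat.pos_of_ne_zero (NeZero.ne m)
      have : (0 : ℤ) < p := by exact_mod_cast s.prime.pos
      positivity
    exact nonneg_of_mul_nonneg_right h1 hpos
  have he1 : e.coeff (r 0) = (m : ℤ) * (A * (m - A)) := by
    rw [he, coeff_mul_r]
    simp only [hC0 _, zero_mul, Finset.sum_const_zero, add_zero, zero_sub, hs0 _]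
    simp only [hα₀, hα, MonoidAlgebra.coeff_sub, MonoidAlgebra.coeff_smul, Finsupp.sub_apply, Finsupp.smul_apply,
      cpart_r, JC_r, smul_eq_mul, mul_one]
    rw [Finset.sum_congr rfl (g := fun i : ZMod m => ((m : ℤ) * m - 2 * m * A) * x.coeff (r i) + A * A) (fun i _ => by
      rcases h01 (r i) with h | h <;> rw [h] <;> ring),
      Finset.sum_add_distrib, ← Finset.mul_sum, Finset.sum_const, Finset.card_univ, ZMod.card, nsmul_eq_mul,
      show (∑ i : ZMod m, x.coeff (r i)) = A from rfl]
    ring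
  simp only [hF, hGm, MonoidAlgebra.coeff_sub, MonoidAlgebra.coeff_smul, Finsupp.sub_apply, Finsupp.smul_apply,
    smul_eq_mul, he1, JC_r, hP, perInd, coeff_ofFun, mul_zero, if_true, mul_one] at hF0
  have hm2 : (0 : ℤ) < (m : ℤ) ^ 2 := by
    have : (0 : ℤ) < m := by exact_mod_cast Nat.pos_of_ne_zero (NeZero.ne m)
    positivity
  refine le_of_mul_le_mul_left ?_ hm2
  linarith [hF0]

end Bound

end Cfsg.Agent.Perm.DihedralB
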