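import Mathlib
import Cfsg.Agent.Lib.Perm.DihedralB.Design

/-!
No nontrivial invariant set has rotation part periodic modulo a subgroup of prime order.
-/

set_option autoImplicit false
set_option maxHeartbeats 1000000

namespace Cfsg.Agent.Perm.DihedralB

open DihedralGroup MonoidAlgebra MulAction

variable {m : ℕ} [NeZero m] {R : Type*} [CommRing R]
variable {G : Type*} [Group G] [MulAction G (DihedralGroup m)]

attribute [-simp] zsmul_eq_mul nsmul_eq_mul zsmul_one

theorem mul_allJ (x : Alg R m) : x * allJ = tot x • allJ := by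
  refine alg_ext fun g => ?_
  rw [coeff_mul_sum, tot_eq, MonoidAlgebra.coeff_smul, Finsupp.smul_apply, allJ_coeff, smul_eq_mul, mul_one]
  exact Finset.sum_congr rfl fun h _ => by rw [allJ_coeff, mul_one]

theorem pow_odd_eq {x : Alg R m} {σ μ : R} (h : x * x = σ • 1 + μ • allJ) :
    ∀ k : ℕ, ∃ ν : R, x ^ (2 * k + 1) = σ ^ k • x + ν • allJ
  | 0 => ⟨0, by simp⟩
  | k + 1 => by
    obtain ⟨ν, hν⟩ := pow_odd_eq h k
    refine ⟨σ ^ k * μ * tot x + ν * σ + ν * μ * tot (allJ : Alg R m), ?_⟩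
    rw [show 2 * (k + 1) + 1 = 2 * k + 1 + 2 by ring, pow_add, hν, pow_two, h]
    simp only [add_mul, mul_add, smul_mul_assoc, mul_smul_comm, mul_one, mul_allJ, smul_smul, smul_add, pow_succ]
    module

theorem tot_mapR {T : Type*} [CommRing T] (f : R →+* T) (x : Alg R m) : tot (mapR f x) = f (tot x) := by
  simp [tot_eq]

theorem sgn_mapR {T : Type*} [CommRing T] (f : R →+* T) (x : Alg R m) : sgn (mapR f x) = f (sgn x) := by
  simp [sgn_eq]

theorem sumR_bounds {x : Alg ℤ m} (h01 : ZeroOne x) :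
    0 ≤ sumR x ∧ sumR x ≤ m ∧ 0 ≤ sumS x ∧ sumS x ≤ m := by
  have h : ∀ g, 0 ≤ x.coeff g ∧ x.coeff g ≤ 1 := fun g => by rcases h01 g with e | e <;> simp [e]
  refine ⟨Finset.sum_nonneg fun i _ => (h _).1, ?_, Finset.sum_nonneg fun i _ => (h _).1, ?_⟩
  · exact (Finset.sum_le_sum fun i _ => (h (r i)).2).trans (by simp)
  · exact (Finset.sum_le_sum fun i _ => (h (sr i)).2).trans (by simp)

variable {x : Alg ℤ m} {σ μ : ℤ}

theorem Design.sigma_nonneg (D : Design x σ μ) : 0 ≤ σ := D.sgn_sq ▸ sq_nonneg _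

/-- A nonconstant design has positive `σ`. -/
theorem Design.sigma_pos (D : Design x σ μ) (h01 : ZeroOne x) (hne : ¬ ∀ g, x.coeff g = x.coeff 1) : 0 < σ := by
  refine lt_of_le_of_ne D.sigma_nonneg fun h0 => hne ?_
  subst h0
  have h1 : tot x * (tot x - 2 * m) = 0 := by linear_combination D.tot_sq - 2 * (m : ℤ) * D.diag
  rcases mul_eq_zero.1 h1 with h | h
  · rw [tot_eq, Finset.sum_eq_zero_iff_of_nonneg fun g _ => by rcases h01 g with e | e <;> simp [e]] at h
    intro g; rw [h g (Finset.mem_univ _), h 1 (Finset.mem_univ _)]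
  · have h2 : ∑ g, (1 - x.coeff g) = 0 := by
      rw [Finset.sum_sub_distrib, ← tot_eq, Finset.sum_const, Finset.card_univ, DihedralGroup.card]
      simp only [nsmul_eq_mul, mul_one, Nat.cast_mul, Nat.cast_ofNat]
      linarith
    rw [Finset.sum_eq_zero_iff_of_nonneg fun g _ => by rcases h01 g with e | e <;> simp [e]] at h2
    intro g; linarith [h2 g (Finset.mem_univ _), h2 1 (Finset.mem_univ _)]

/-- No design with a period of odd prime order dividing `|A| - |B|`. -/
theorem Design.false_of_period {p : ℕ} (s : Split m p) (hp : p ≠ 2) (D : Design x σ μ) (hs : Sym x)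
    (h01 : ZeroOne x) (hper : CPer s.h x) (hσ : 0 < σ) (hdvd : (p : ℤ) ∣ sgn x) : False := by
  have hb := D.bound s hs h01 hper hσ
  obtain ⟨hA0, hA1, hB0, hB1⟩ := sumR_bounds h01
  have h1 := D.tot_sq
  have h2 := D.sgn_sq
  have h3 := D.diag
  rw [tot_eq'] at h1 h3
  rw [sgn_eq'] at h2 hdvd
  set A := sumR x
  set B := sumS x
  have hp3 : (3 : ℤ) ≤ p := by have := s.prime.two_le; exact_mod_cast (by omega : 3 ≤ p)
  set d := |A - B| with hd
  have hd2 : d ^ 2 = σ := by rw [hd, sq_abs, h2]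
  have hd0 : A - B ≠ 0 := fun e => hσ.ne' (by rw [← h2, e]; ring)
  have hdp : (p : ℤ) ≤ d := Int.le_of_dvd (abs_pos.2 hd0) ((dvd_abs _ _).2 hdvd)
  have h4 : 4 * (A * (m - A)) = σ * (2 * m - 2) + 2 * ((A - B) * (m - (A + B))) := by
    linear_combination (-1 : ℤ) * h1 + (-1 : ℤ) * h2 + 2 * (m : ℤ) * h3
  have h5 : -(d * (m : ℤ)) ≤ (A - B) * (m - (A + B)) := by
    have h6 : |(A - B) * (m - (A + B))| ≤ d * m := by
      rw [abs_mul, ← hd]
      exact mul_le_mul_of_nonneg_left (abs_le.2 ⟨by linarith, by linarith⟩) (abs_nonneg _)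
    exact (neg_le_neg h6).trans (neg_abs_le _)
  have hm0 : (0 : ℤ) ≤ m := by positivity
  have h7 : d ^ 2 * (2 * p * m + 2 * p - 4 * m) ≤ 2 * p * (d * m) := by
    rw [hd2]
    have h8 := mul_le_mul_of_nonneg_left h5 (by linarith : (0 : ℤ) ≤ 2 * p)
    have h9 := congrArg (fun t : ℤ => (p : ℤ) * t) h4
    linarith
  have hdpos : 0 < d := by linarith
  have h10 : d * (2 * p * m + 2 * p - 4 * m) ≤ 2 * p * m := by
    refine le_of_mul_le_mul_left ?_ hdpos
    linarith
  have h11 : 0 ≤ 2 * (p : ℤ) * m + 2 * p - 4 * m := by nlinarith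
  have h12 := (mul_le_mul_of_nonneg_right hdp h11).trans h10
  nlinarith [mul_nonneg (mul_nonneg (by linarith : (0 : ℤ) ≤ p) hm0) (by linarith : (0 : ℤ) ≤ (p : ℤ) - 3)]

namespace Regular

variable (S : Regular G m)

include S in
/-- The `p`-th power of a design modulo `p`. -/
theorem design_pow {p : ℕ} [Fact p.Prime] (hp : p ≠ 2) (s : Split m p) (hx : RInv G x)
    (D : Design x σ μ) [DecidablePred s.Free] : ∃ ν : ZMod p, ∀ k,
      ((if s.Free k then x.coeff (r k) - x.coeff (r (k + s.h)) else 0 : ℤ) : ZMod p)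
        = (σ : ZMod p) ^ ((p - 1) / 2) * (x.coeff (r k) : ZMod p) + ν := by
  set X := mapR (Int.castRingHom (ZMod p)) x
  have hX : X * X = (σ : ZMod p) • 1 + (μ : ZMod p) • allJ := by
    rw [← map_mul, D.eq]
    refine alg_ext fun g => ?_
    simp only [mapR_coeff, MonoidAlgebra.coeff_add, MonoidAlgebra.coeff_smul, Finsupp.add_apply, Finsupp.smul_apply,
      coeff_one, allJ_coeff, smul_eq_mul, mul_one, eq_intCast]
    split_ifs <;> push_cast <;> ring
  obtain ⟨ν, hν⟩ := pow_odd_eq hX ((p - 1) / 2)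
  refine ⟨ν, fun k => ?_⟩
  rw [← S.pow_split_coeff hp s hx]
  have hodd : 2 * ((p - 1) / 2) + 1 = p := by
    obtain ⟨n, hn⟩ := (Fact.out : p.Prime).odd_of_ne_two hp
    omega
  have h1 := congrArg (fun w : Alg (ZMod p) m => w.coeff (r k)) hν
  rw [hodd] at h1
  rw [h1]
  simp [X]

include S in
/-- No invariant set has rotation part periodic modulo an odd prime order subgroup. -/
theorem noP {p : ℕ} (s : Split m p) (hp : p ≠ 2) (hR : Rev G s) (hx : RInv G x) (h01 : ZeroOne x)
    (hper : CPer s.h x) : ∀ g, x.coeff g = x.coeff 1 := by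
  classical
  by_contra hne
  haveI := Fact.mk s.prime
  obtain ⟨σ, μ, D⟩ := exists_design s S hR hx h01 hper
  have hX : (mapR (Int.castRingHom (ZMod p)) x) ^ p = 0 := by
    refine S.ext_C ((hx.inv.mapR _).pow p) (fun g a b => by simp) fun k => ?_
    rw [S.pow_split_coeff hp s hx, MonoidAlgebra.coeff_zero, Finsupp.zero_apply, hper k, sub_self, ite_self,
      Int.cast_zero]
  have h1 := congrArg sgn hX
  rw [map_pow, ZMod.pow_card, map_zero, sgn_mapR, eq_intCast] at h1
  exact D.false_of_period s hp (S.sym hx.inv) h01 hper (D.sigma_pos h01 hne)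
    ((ZMod.intCast_zmod_eq_zero_iff_dvd _ _).1 h1)

include S in
/-- The case with rotation part inside a proper subgroup. -/
theorem design_support (hx : RInv G x) (h01 : ZeroOne x) (hne : ¬ ∀ g, x.coeff g = x.coeff 1)
    (D : Design x σ μ) (z : ZMod m) (hz : z ≠ 0) (hper : CPer z x) (K : ZMod m → Prop)
    (hK1 : ¬ K 1) (hKadd : ∀ i j, K i → K j → K (i + j)) (hsup : ∀ i, ¬ K i → x.coeff (r i) = 0) :
    m = 8 ∧ sumR x = 2 ∧ μ = 2 := by
  classical
  have hs := S.sym hx.inv
  have hσ := D.sigma_pos h01 hne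
  obtain ⟨c, hc⟩ := D.cubic hs
  have hc0 : c = 0 := by
    have hz1 : ∀ a b : Alg ℤ m, InC a → InC b → (∀ i, ¬ K i → a.coeff (r i) = 0) → (∀ i, ¬ K i → b.coeff (r i) = 0) →
        ∀ i, ¬ K i → (a * b).coeff (r i) = 0 := by
      intro a b ha hb hasup hbsup i hi
      rw [coeff_mul_r]
      simp only [ha _, zero_mul, Finset.sum_const_zero, add_zero]
      refine Finset.sum_eq_zero fun j _ => ?_
      by_cases hj : K j
      · rw [hbsup (i - j) (fun h => hi (by simpa using hKadd _ _ hj h)), mul_zero]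
      · rw [hasup j hj, zero_mul]
    have hsc : ∀ i, ¬ K i → (cpart x).coeff (r i) = 0 := fun i hi => by rw [cpart_r]; exact hsup i hi
    have hC := inC_cpart x
    have h1 := hz1 _ _ (hC.mul hC) hC (hz1 _ _ hC hC hsc hsc) hsc 1 hK1
    have h2 := congrArg (fun w : Alg ℤ m => w.coeff (r 1)) hc
    simp only [MonoidAlgebra.coeff_add, MonoidAlgebra.coeff_smul, Finsupp.add_apply, Finsupp.smul_apply, h1, cpart_r,
      hsup 1 hK1, JC_r, smul_eq_mul, mul_zero, zero_add, mul_one] at h2
    exact h2.symm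
  have hcub := D.sum_cubic hs hc
  rw [hc0, zero_mul, add_zero] at hcub
  obtain ⟨hA0, hA1, hB0, hB1⟩ := sumR_bounds h01
  have hA : sumR x ≠ 0 := by
    intro h
    have h0 : ∀ i, x.coeff (r i) = 0 := fun i => (Finset.sum_eq_zero_iff_of_nonneg fun j _ => by
      rcases h01 (r j) with e | e <;> simp [e]).1 h i (Finset.mem_univ _)
    have : x = 0 := S.ext_C hx.inv (fun g a b => by simp) fun i => by simp [h0 i]
    exact hne fun g => by simp [this]
  have hA2 : 2 ≤ sumR x := by
    obtain ⟨i, -, hi⟩ := Finset.exists_ne_zero_of_sum_ne_zero hA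
    have hi1 : x.coeff (r i) = 1 := (h01 _).resolve_left hi
    have h := Finset.sum_le_sum_of_subset_of_nonneg (f := fun j => x.coeff (r j))
      (Finset.subset_univ ({i, i + z} : Finset (ZMod m))) (fun j _ _ => by rcases h01 (r j) with e | e <;> simp [e])
    rw [Finset.sum_pair (fun e => hz (by simpa using e.symm)), hper i, hi1] at h
    exact h
  have hAσ : sumR x ^ 2 = σ := mul_left_cancel₀ hA (by linarith)
  have h1 := D.tot_sq
  have h2 := D.sgn_sq
  have h3 := D.diag
  rw [tot_eq'] at h1 h3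
  rw [sgn_eq'] at h2
  have h4 : sumS x * (sumS x - 2 * sumR x) = 0 := by linear_combination h2 - hAσ
  rcases mul_eq_zero.1 h4 with h | h
  · exfalso
    have h0 : ∀ i, x.coeff (sr i) = 0 := fun i => (Finset.sum_eq_zero_iff_of_nonneg fun j _ => by
      rcases h01 (sr j) with e | e <;> simp [e]).1 h i (Finset.mem_univ _)
    refine hne fun g => ?_
    rcases eq_or_ne g 1 with rfl | hg
    · rfl
    · rw [S.eq_zero_of_inC hx.inv h0 hg, DihedralGroup.one_def, ← hper 0, zero_add,
        S.eq_zero_of_inC hx.inv h0 (r_ne_one.2 hz)]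
  · have hB : sumS x = 2 * sumR x := by linarith
    rw [hB] at h1 h3 hB1
    set A := sumR x
    have h5 : 3 * A * (2 * m - 3 * A) = A * (A * (2 * m - 1)) := by
      linear_combination (-1 : ℤ) * h1 + 2 * (m : ℤ) * h3 - (2 * (m : ℤ) - 1) * hAσ
    have h6 : 6 * (m : ℤ) - 9 * A = A * (2 * m - 1) := mul_left_cancel₀ hA (by linear_combination h5)
    have hA3 : A ≤ 2 := by nlinarith
    have hA' : A = 2 := le_antisymm hA3 hA2
    rw [hA'] at h6 h3 hAσ
    refine ⟨by omega, hA', by linarith⟩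

include S in
theorem noZ : NoZ G m := by
  intro s₂
  classical
  suffices key : ∀ x : Alg ℤ m, RInv G x → ZeroOne x → CPer s₂.h x → x.coeff (r (1 : ZMod m)) = 0 →
      ∀ g, x.coeff g = x.coeff 1 by
    intro x hx h01 hper g
    rcases h01 (r (1 : ZMod m)) with h | h
    · exact key x hx h01 hper h g
    · have h1 := key (allJ - x) (RInv.allJ.sub hx)
        (fun g => by rcases h01 g with e | e <;> simp [e]) (fun i => by simp [hper i]) (by simp [h]) g
      simpa using h1
  intro x hx h01 hper hgen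
  by_contra hne
  have hs := S.sym hx.inv
  obtain ⟨σ, μ, D⟩ := exists_design s₂ S (S.rev_two s₂) hx h01 hper
  have hσ := D.sigma_pos h01 hne
  by_cases hodd : ∃ p : ℕ, p.Prime ∧ p ≠ 2 ∧ p ∣ m
  · obtain ⟨p, hp, hp2, hpm⟩ := hodd
    haveI := Fact.mk hp
    obtain ⟨s⟩ := exists_split (NeZero.ne m) hp hpm
    obtain ⟨ν, hν⟩ := S.design_pow hp2 s hx D
    have hν0 : ν = 0 := by
      have h1 := hν 1
      rw [if_neg s.not_free_one, hgen] at h1
      simpa using h1.symm
    subst hν0
    by_cases hdvd : (p : ℤ) ∣ sgn x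
    · refine D.false_of_period s hp2 hs h01 (s.periodic hx.unit fun i hi => ?_) hσ hdvd
      have h1 := hν i
      have hσ0 : (σ : ZMod p) = 0 := by
        rw [← D.sgn_sq, Int.cast_pow, (ZMod.intCast_zmod_eq_zero_iff_dvd _ _).2 hdvd, zero_pow two_ne_zero]
      rw [if_pos hi, hσ0, zero_pow (by have := hp.two_le; omega : (p - 1) / 2 ≠ 0), zero_mul, zero_add,
        ZMod.intCast_zmod_eq_zero_iff_dvd] at h1
      have h2 : |x.coeff (r i) - x.coeff (r (i + s.h))| < p := by
        have := hp.two_le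
        rcases h01 (r i) with a | a <;> rcases h01 (r (i + s.h)) with b | b <;> simp [a, b] <;> omega
      linarith [Int.eq_zero_of_abs_lt_dvd h1 h2]
    · obtain ⟨h8, -, -⟩ := S.design_support hx h01 hne D s₂.h s₂.h_ne_zero hper s.Free s.not_free_one
        (fun i j hi hj => s.free_add hi hj) (fun i hi => by
          have h1 := hν i
          have hσ1 : (σ : ZMod p) ^ ((p - 1) / 2) = 1 := by
            obtain ⟨n, hn⟩ := hp.odd_of_ne_two hp2
            rw [← D.sgn_sq, Int.cast_pow, ← pow_mul, show 2 * ((p - 1) / 2) = p - 1 by omega]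
            exact ZMod.pow_card_sub_one_eq_one fun h => hdvd ((ZMod.intCast_zmod_eq_zero_iff_dvd _ _).1 h)
          rw [if_neg hi, hσ1, one_mul, add_zero] at h1
          rcases h01 (r i) with e | e
          · exact e
          · rw [e] at h1; simp at h1)
      subst h8
      exact hp2 ((Nat.prime_dvd_prime_iff_eq hp Nat.prime_two).1
        (hp.dvd_of_dvd_pow (show p ∣ 2 ^ 3 from hpm)))
  · push Not at hodd
    have hsup : ∀ i : ZMod m, ¬ s₂.h * i = 0 → x.coeff (r i) = 0 := by
      intro i hi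
      have hu : i.val.Coprime m := by
        refine Nat.coprime_of_dvd fun q hq hqi hqm => hi ?_
        have h2 : q = 2 := by_contra fun h => hodd q hq h hqm
        rw [← ZMod.natCast_zmod_val i, mul_comm, s₂.cast_mul_h_eq_zero]
        exact h2 ▸ hqi
      have h := hx.unit (ZMod.unitOfCoprime _ hu) 1
      simp only [ZMod.coe_unitOfCoprime, ZMod.natCast_zmod_val, mul_one] at h
      rw [h, hgen]
    have hK1 : ¬ s₂.h * (1 : ZMod m) = 0 := by rw [mul_one]; exact s₂.h_ne_zero
    have hKadd : ∀ i j, s₂.h * i = 0 → s₂.h * j = 0 → s₂.h * (i + j) = 0 := fun i j hi hj => by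
      rw [mul_add, hi, hj, add_zero]
    obtain ⟨h8, hA, hμ⟩ := S.design_support hx h01 hne D s₂.h s₂.h_ne_zero hper (fun i => s₂.h * i = 0)
      hK1 hKadd hsup
    set a := fun i => x.coeff (r i)
    set b := fun i => x.coeff (sr i) with hb
    obtain ⟨i₀, -, hi₀⟩ := Finset.exists_ne_zero_of_sum_ne_zero (show sumR x ≠ 0 by rw [hA]; norm_num)
    have hi₁ : x.coeff (r i₀) = 1 := (h01 _).resolve_left hi₀
    have hne₀ : i₀ ≠ i₀ + s₂.h := fun e => s₂.h_ne_zero (by simpa using e.symm)
    have hrest : ∀ i, i ≠ i₀ → i ≠ i₀ + s₂.h → x.coeff (r i) = 0 := by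
      intro i h1 h2
      refine (h01 _).resolve_right fun e => ?_
      have h := Finset.sum_le_sum_of_subset_of_nonneg (f := fun j => x.coeff (r j))
        (Finset.subset_univ ({i, i₀, i₀ + s₂.h} : Finset (ZMod m)))
        (fun j _ _ => by rcases h01 (r j) with e | e <;> simp [e])
      rw [Finset.sum_insert (by simp [h1, h2]), Finset.sum_pair hne₀, hper i₀, hi₁, e,
        show (∑ j : ZMod m, x.coeff (r j)) = 2 from hA] at h
      norm_num at h
    have hsr : ∀ k, b (k + i₀) + b (k + i₀ + s₂.h) = 1 := by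
      intro k
      have h1 := congrArg (fun w : Alg ℤ m => w.coeff (sr k)) D.eq
      simp only [MonoidAlgebra.coeff_add, MonoidAlgebra.coeff_smul, Finsupp.add_apply, Finsupp.smul_apply, coeff_one,
        if_neg (sr_ne_one k), allJ_coeff, smul_eq_mul, mul_zero, zero_add, mul_one, hμ, coeff_mul_sr] at h1
      have h2 : ∑ i, x.coeff (r i) * x.coeff (sr (k + i)) = b (k + i₀) + b (k + i₀ + s₂.h) := by
        rw [← Finset.sum_subset (Finset.subset_univ ({i₀, i₀ + s₂.h} : Finset (ZMod m))) (fun i _ hi => by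
          simp only [Finset.mem_insert, Finset.mem_singleton, not_or] at hi
          rw [hrest i hi.1 hi.2, zero_mul]), Finset.sum_pair hne₀, hper i₀, hi₁, one_mul, one_mul, add_assoc k i₀]
      have h3 : ∑ i, x.coeff (sr i) * x.coeff (r (k - i)) = ∑ i, x.coeff (r i) * x.coeff (sr (k + i)) := by
        refine Fintype.sum_equiv (Equiv.subRight k) _ _ fun i => ?_
        rw [Equiv.subRight_apply, add_sub_cancel, ← hs (i - k), neg_sub, mul_comm]
      rw [h3, h2] at h1
      linarith
    have hb1 : ∑ i, b i * b (i + 1) = 2 := by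
      haveI : Nontrivial (ZMod m) := ZMod.nontrivial_iff.2 (by have := S.one_lt; omega)
      have h1 := congrArg (fun w : Alg ℤ m => w.coeff (r 1)) D.eq
      simp only [MonoidAlgebra.coeff_add, MonoidAlgebra.coeff_smul, Finsupp.add_apply, Finsupp.smul_apply, coeff_one,
        if_neg (r_ne_one.2 (one_ne_zero (α := ZMod m))), allJ_coeff, smul_eq_mul, mul_zero, zero_add, mul_one, hμ,
        coeff_mul_r] at h1
      rw [Finset.sum_eq_zero (fun i _ => ?_), zero_add] at h1
      · exact h1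
      by_cases hi : s₂.h * i = 0
      · rw [hsup (1 - i) (fun h => hK1 (by simpa using hKadd _ _ hi h)), mul_zero]
      · rw [hsup i hi, zero_mul]
    have hpair : ∀ j, b j + b (j + s₂.h) = 1 := fun j => by simpa using hsr (j - i₀)
    have h01b : ∀ j, b j = 0 ∨ b j = 1 := fun j => h01 _
    subst h8
    have hN : s₂.h = (4 : ZMod 8) := by
      show ((2 ^ s₂.n * s₂.m' : ℕ) : ZMod 8) = 4
      rw [show 2 ^ s₂.n * s₂.m' = 4 by have := s₂.eq'; omega]
      rfl
    rw [hN] at hpair
    have hb2 := (Fin.sum_univ_eight (fun i : ZMod 8 => b i * b (i + 1))).symm.trans hb1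
    replace hb1 := hb2
    have p0 := hpair 0
    have p1 := hpair 1
    have p2 := hpair 2
    have p3 := hpair 3
    change b 0 * b 1 + b 1 * b 2 + b 2 * b 3 + b 3 * b 4 + b 4 * b 5 + b 5 * b 6 + b 6 * b 7 + b 7 * b 0 = 2 at hb1
    change b 0 + b 4 = 1 at p0
    change b 1 + b 5 = 1 at p1
    change b 2 + b 6 = 1 at p2
    change b 3 + b 7 = 1 at p3
    rw [show b 4 = 1 - b 0 by linarith, show b 5 = 1 - b 1 by linarith, show b 6 = 1 - b 2 by linarith,
      show b 7 = 1 - b 3 by linarith] at hb1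
    rcases h01b 0 with e0 | e0 <;> rcases h01b 1 with e1 | e1 <;> rcases h01b 2 with e2 | e2 <;>
      rcases h01b 3 with e3 | e3 <;> rw [e0, e1, e2, e3] at hb1 <;> norm_num at hb1

include S in
theorem rev {p : ℕ} (s : Split m p) : Rev G s := by
  by_cases h2 : p = 2
  · subst h2; exact S.rev_two s
  by_cases hm : 2 ∣ m
  · obtain ⟨s₂⟩ := exists_split (NeZero.ne m) Nat.prime_two hm
    exact S.rev_even s h2 s₂ S.noZ
  · exact S.rev_odd s hm

end Regular

end Cfsg.Agent.Perm.DihedralB
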