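import Mathlib
import Cfsg.Agent.Lib.Perm.DihedralB.NoPeriodic

/-!
Wielandt's theorem: the stabilizer of `1` is transitive on the other elements.
-/

set_option autoImplicit false
set_option maxHeartbeats 1000000

namespace Cfsg.Agent.Perm.DihedralB

open DihedralGroup MonoidAlgebra MulAction

variable {m : ℕ} [NeZero m]
variable {G : Type*} [Group G] [MulAction G (DihedralGroup m)]

attribute [-simp] zsmul_eq_mul nsmul_eq_mul zsmul_one

/-- A nonzero element of odd order is not of order prime to every odd prime. -/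
theorem exists_odd_not_free {N : ℕ} (hN : N ∣ m) (hodd : ¬ 2 ∣ N) {i : ZMod m} (hi : i ≠ 0)
    (hNi : (N : ZMod m) * i = 0) : ∃ p : ℕ, p ≠ 2 ∧ ∃ s : Split m p, ¬ s.Free i := by
  have hd : addOrderOf i ∣ N := addOrderOf_dvd_iff_nsmul_eq_zero.2 (by rw [nsmul_eq_mul]; exact hNi)
  obtain ⟨p, hp, hpi⟩ := Nat.exists_prime_and_dvd (n := addOrderOf i)
    (fun h => hi (AddMonoid.addOrderOf_eq_one_iff.1 h))
  refine ⟨p, fun h => hodd (h ▸ hpi.trans hd), ?_⟩
  obtain ⟨s⟩ := exists_split (NeZero.ne m) hp ((hpi.trans hd).trans hN)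
  exact ⟨s, fun h => s.cop (hpi.trans (addOrderOf_dvd_iff_nsmul_eq_zero.2 (by rw [nsmul_eq_mul]; exact h)))⟩

namespace Regular

variable (S : Regular G m)

include S in
/-- Every nontrivial orbit meets the rotation generators. -/
theorem rel_generator {g : DihedralGroup m} (hg : g ≠ 1) : ∃ u : (ZMod m)ˣ, Rel G g (r (u : ZMod m)) := by
  classical
  haveI : Nontrivial (ZMod m) := ZMod.nontrivial_iff.2 (by have := S.one_lt; omega)
  suffices key : ∀ i : ZMod m, i ≠ 0 → ∃ u : (ZMod m)ˣ, Rel G (r i) (r (u : ZMod m)) by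
    obtain ⟨i, hi⟩ := S.exists_rel g
    obtain ⟨u, hu⟩ := key i (fun h => hg (by subst h; exact (DihedralGroup.one_def ▸ hi).symm.one_left))
    exact ⟨u, hi.trans hu⟩
  by_contra hno
  push Not at hno
  obtain ⟨i₀, hi₀, hno⟩ := hno
  set P : DihedralGroup m → Prop := fun g => ∃ u : (ZMod m)ˣ, Rel G g (r (u : ZMod m)) with hP
  set X : Alg ℤ m := ind P with hX
  have hXR : RInv G X := by
    refine ⟨S.inv_ind fun u v huv => fun ⟨w, hw⟩ => ⟨w, huv.symm.trans hw⟩, fun u i => ?_⟩
    simp only [hX, ind_coeff]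
    refine if_congr ⟨fun ⟨w, hw⟩ => ⟨u⁻¹ * w, ?_⟩, fun ⟨w, hw⟩ => ⟨u * w, ?_⟩⟩ rfl rfl
    · simpa [← mul_assoc] using S.rel_smul u⁻¹ hw
    · simpa using S.rel_smul u hw
  have hX01 : ZeroOne X := fun g => by simp only [hX, ind_coeff]; split_ifs <;> simp
  have hX1 : X.coeff (r 1) = 1 := by
    rw [hX, ind_coeff, if_pos]; exact ⟨1, by rw [Units.val_one]; exact Rel.refl _⟩
  have hX0 : X.coeff 1 = 0 := by
    rw [hX, ind_coeff, if_neg]
    rintro ⟨u, hu⟩
    exact r_ne_one.2 u.ne_zero hu.one_left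
  have hXi : X.coeff (r i₀) = 0 := by
    rw [hX, ind_coeff, if_neg]
    exact fun ⟨u, hu⟩ => hno u hu
  -- the elements of order divisible by an odd prime are in the orbit set of the generators
  have hodd : ∀ p : ℕ, p ≠ 2 → ∀ s : Split m p, ∀ i, ¬ s.Free i → X.coeff (r i) = 1 := by
    intro p hp s i hi
    obtain ⟨E, hE, hEc⟩ := S.exists_diff hp s hXR hX01
    have hY : ∀ i, (X - E).coeff (r i) = if s.Free i then X.coeff (r (i + s.h)) else X.coeff (r i) := fun i => by
      rw [MonoidAlgebra.coeff_sub, Finsupp.sub_apply, hEc]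
      split_ifs <;> ring
    have hY01 : ZeroOne (X - E) := S.zeroOne_of_C (hXR.inv.sub hE.inv) fun i => by
      rw [hY]; split_ifs <;> exact hX01 _
    have hper : CPer s.h (X - E) := s.periodic (hXR.sub hE).unit fun j hj => by
      have hjh : ¬ s.Free (j + s.h) := fun h => s.not_free_h (by
        rw [Split.Free, mul_add, show (s.m' : ZMod m) * j = 0 from hj, zero_add] at h; exact h)
      rw [hY, hY, if_neg hjh, if_pos hj]
    have hc := S.noP s hp (S.rev s) (hXR.sub hE) hY01 hper
    have h1 := (hc (r i)).trans (hc (r 1)).symm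
    rwa [hY, hY, if_neg hi, if_neg s.not_free_one, hX1] at h1
  by_cases h2 : 2 ∣ m
  · obtain ⟨s₂⟩ := exists_split (NeZero.ne m) Nat.prime_two h2
    have h2' : ∀ i : ZMod m, i ≠ 0 → s₂.Free i → X.coeff (r i) = 1 ∧ X.coeff (r (i + s₂.h)) = 1 := by
      intro i hi hfree
      obtain ⟨p, hp, s, hs⟩ := exists_odd_not_free (N := s₂.m') ⟨2 ^ (s₂.n + 1), s₂.eq.trans (mul_comm _ _)⟩
        s₂.cop hi hfree
      refine ⟨hodd p hp s i hs, hodd p hp s _ fun h => hs ?_⟩
      have hz : s.Free s₂.h := by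
        refine (s₂.cast_mul_h_eq_zero s.m').2 ?_
        exact (Nat.prime_two.dvd_mul.1 (s.eq ▸ s₂.dvd : 2 ∣ p ^ (s.n + 1) * s.m')).resolve_left fun h =>
          hp ((Nat.prime_dvd_prime_iff_eq Nat.prime_two s.prime).1 (Nat.prime_two.dvd_of_dvd_pow h)).symm
      have h' := s.free_add h hz
      rwa [add_assoc, ← two_mul, show (2 : ZMod m) * s₂.h = 0 by exact_mod_cast s₂.p_mul_h, add_zero] at h'
    rcases hX01 (r s₂.h) with hz | hz
    · have hper : CPer s₂.h X := s₂.periodic hXR.unit fun i hi => by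
        rcases eq_or_ne i 0 with rfl | h0
        · rw [zero_add, hz, ← DihedralGroup.one_def, hX0]
        · rw [(h2' i h0 hi).1, (h2' i h0 hi).2]
      have h := S.noZ s₂ X hXR hX01 hper (r 1)
      rw [hX1, hX0] at h
      exact one_ne_zero h
    · have h01 : ZeroOne (X + 1) := fun g => by
        rcases eq_or_ne g 1 with rfl | hg
        · simp [hX0, coeff_one]
        · simpa [coeff_one, hg] using hX01 g
      have hper : CPer s₂.h (X + 1) := s₂.periodic (hXR.add RInv.one).unit fun i hi => by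
        rcases eq_or_ne i 0 with rfl | h0
        · rw [zero_add, MonoidAlgebra.coeff_add, Finsupp.add_apply, Finsupp.add_apply, hz, coeff_one, coeff_one,
            if_neg (r_ne_one.2 s₂.h_ne_zero), ← DihedralGroup.one_def, if_pos rfl, hX0]
          ring
        · have hne : i + s₂.h ≠ 0 := fun h => s₂.not_free_h (by
            rw [Split.Free, eq_neg_of_add_eq_zero_right h, mul_neg, show (s₂.m' : ZMod m) * i = 0 from hi, neg_zero])
          simp only [MonoidAlgebra.coeff_add, Finsupp.add_apply, coeff_one, if_neg (r_ne_one.2 h0),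
            if_neg (r_ne_one.2 hne), (h2' i h0 hi).1, (h2' i h0 hi).2]
      have h := S.noZ s₂ (X + 1) (hXR.add RInv.one) h01 hper (r i₀)
      simp [coeff_one, r_ne_one.2 hi₀, hXi, hX0] at h
  · obtain ⟨p, hp, s, hs⟩ := exists_odd_not_free (N := m) dvd_rfl h2 hi₀ (by simp)
    rw [hodd p hp s i₀ hs] at hXi
    exact one_ne_zero hXi

include S in
/-- The orbit indicators have all the same `|A| + |B|` and `|A| - |B|`. -/
theorem tot_eq_tot (u : (ZMod m)ˣ) :
    tot (ind (Rel G (r (u : ZMod m))) : Alg ℤ m) = tot (ind (Rel G (r (1 : ZMod m))) : Alg ℤ m) ∧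
    sgn (ind (Rel G (r (u : ZMod m))) : Alg ℤ m) = sgn (ind (Rel G (r (1 : ZMod m))) : Alg ℤ m) := by
  classical
  obtain ⟨q, hq, hqN, hq2, hqu⟩ := exists_prime_unit u (4 * m)
  haveI := Fact.mk hq
  set X : Alg (ZMod q) m := ind (Rel G (r (1 : ZMod m))) with hX
  set Y : Alg (ZMod q) m := ind (Rel G (r (u : ZMod m))) with hY
  have hXI : Inv G X := S.inv_ind fun a b hab h => h.trans hab
  have hYI : Inv G Y := S.inv_ind fun a b hab h => h.trans hab
  have hXY : X ^ q = Y := S.ext_C (hXI.pow q) hYI fun k => by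
    rw [pow_coeff hq2 (S.sym hXI), fibre_unit (u := u⁻¹) (by rw [inv_inv]; exact hqu), Finset.sum_singleton, hX, hY,
      ind_coeff, ind_coeff]
    refine if_congr ⟨fun h => ?_, fun h => ?_⟩ rfl rfl
    · simpa [← mul_assoc] using S.rel_smul u h
    · simpa using S.rel_smul u⁻¹ h
  have h1 := congrArg tot hXY
  have h2 := congrArg sgn hXY
  rw [map_pow, ZMod.pow_card, hX, hY, ← mapR_ind (R := ℤ) (Int.castRingHom _), ← mapR_ind (R := ℤ)
    (Int.castRingHom _) (Rel G (r (u : ZMod m))), tot_mapR, tot_mapR, eq_intCast, eq_intCast,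
    ZMod.intCast_eq_intCast_iff_dvd_sub] at h1
  rw [map_pow, ZMod.pow_card, hX, hY, ← mapR_ind (R := ℤ) (Int.castRingHom _), ← mapR_ind (R := ℤ)
    (Int.castRingHom _) (Rel G (r (u : ZMod m))), sgn_mapR, sgn_mapR, eq_intCast, eq_intCast,
    ZMod.intCast_eq_intCast_iff_dvd_sub] at h2
  have hb : ∀ P : DihedralGroup m → Prop, 0 ≤ sumR (ind P : Alg ℤ m) ∧ sumR (ind P : Alg ℤ m) ≤ m ∧
      0 ≤ sumS (ind P : Alg ℤ m) ∧ sumS (ind P : Alg ℤ m) ≤ m := fun P =>
    sumR_bounds fun g => by rw [ind_coeff]; split_ifs <;> simp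
  obtain ⟨a0, a1, b0, b1⟩ := hb (Rel G (r (u : ZMod m)))
  obtain ⟨c0, c1, d0, d1⟩ := hb (Rel G (r (1 : ZMod m)))
  rw [tot_eq', tot_eq'] at h1
  rw [sgn_eq', sgn_eq'] at h2
  rw [tot_eq', tot_eq', sgn_eq', sgn_eq']
  have hqN' : (4 * m : ℤ) < q := by exact_mod_cast hqN
  constructor
  · have := Int.eq_zero_of_abs_lt_dvd h1 (abs_lt.2 ⟨by linarith, by linarith⟩)
    linarith
  · have := Int.eq_zero_of_abs_lt_dvd h2 (abs_lt.2 ⟨by linarith, by linarith⟩)
    linarith

include S in
/-- The stabilizer of `1` is transitive on the other elements. -/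
theorem two_class {g g' : DihedralGroup m} (hg : g ≠ 1) (hg' : g' ≠ 1) : Rel G g g' := by
  classical
  haveI : Nontrivial (ZMod m) := ZMod.nontrivial_iff.2 (by have := S.one_lt; omega)
  set k := tot (ind (Rel G (r (1 : ZMod m))) : Alg ℤ m) with hk
  set d := sgn (ind (Rel G (r (1 : ZMod m))) : Alg ℤ m) with hd
  have hcls : ∀ v : DihedralGroup m, v ≠ 1 →
      tot (ind (Rel G v) : Alg ℤ m) = k ∧ sgn (ind (Rel G v) : Alg ℤ m) = d := fun v hv => by
    obtain ⟨u, hu⟩ := S.rel_generator hv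
    have e : (ind (Rel G v) : Alg ℤ m) = ind (Rel G (r (u : ZMod m))) := alg_ext fun w => by
      rw [ind_coeff, ind_coeff]; exact if_congr ⟨hu.symm.trans, hu.trans⟩ rfl rfl
    rw [e]; exact S.tot_eq_tot u
  have hlin : ∀ f : Alg ℤ m, Inv G f → f.coeff 1 = 0 → k * sgn f = d * tot f := by
    suffices ∀ (n : ℕ) (f : Alg ℤ m), Inv G f → f.coeff 1 = 0 → f.coeff.support.card ≤ n →
        k * sgn f = d * tot f from fun f hf h1 => this _ f hf h1 le_rfl
    intro n
    induction n with
    | zero =>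
      intro f hf _ hn
      have : f = 0 := alg_ext fun w => by
        rw [Finsupp.support_eq_empty.1 (Finset.card_eq_zero.1 (Nat.le_zero.1 hn))]; simp
      simp [this]
    | succ n ih =>
      intro f hf h1 hn
      rcases f.coeff.support.eq_empty_or_nonempty with he | ⟨v, hv⟩
      · exact ih f hf h1 (by simp [he])
      have hv1 : v ≠ 1 := fun e => by rw [e, Finsupp.mem_support_iff] at hv; exact hv h1
      set f' := f - f.coeff v • (ind (Rel G v) : Alg ℤ m) with hf'
      have hI : Inv G f' := hf.sub ((S.inv_ind fun a b hab h => h.trans hab).smul _)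
      have h1' : f'.coeff 1 = 0 := by
        simp only [hf', MonoidAlgebra.coeff_sub, MonoidAlgebra.coeff_smul, Finsupp.sub_apply, Finsupp.smul_apply,
          ind_coeff, h1, if_neg (fun h : Rel G v 1 => hv1 h.symm.one_left), smul_zero, sub_zero]
      have hsub : f'.coeff.support ⊆ f.coeff.support.erase v := by
        intro w hw
        rw [Finsupp.mem_support_iff] at hw
        simp only [hf', MonoidAlgebra.coeff_sub, MonoidAlgebra.coeff_smul, Finsupp.sub_apply, Finsupp.smul_apply,
          ind_coeff, smul_eq_mul] at hw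
        by_cases hvw : Rel G v w
        · simp [hvw, hf.rel hvw] at hw
        · rw [if_neg hvw, mul_zero, sub_zero] at hw
          exact Finset.mem_erase.2 ⟨fun e => hvw (e ▸ Rel.refl _), Finsupp.mem_support_iff.2 hw⟩
      have h3 := ih f' hI h1' ((Finset.card_le_card hsub).trans (by
        rw [Finset.card_erase_of_mem hv]; omega))
      rw [hf', map_sub, map_sub, map_smul, map_smul, (hcls v hv1).1, (hcls v hv1).2, smul_eq_mul, smul_eq_mul] at h3
      linear_combination h3
  by_contra hne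
  set T : Alg ℤ m := ind (Rel G g) with hT
  set U : Alg ℤ m := ind (Rel G g') with hU
  have hTI : Inv G T := S.inv_ind fun a b hab h => h.trans hab
  have hUI : Inv G U := S.inv_ind fun a b hab h => h.trans hab
  obtain ⟨hTk, hTd⟩ := hcls g hg
  obtain ⟨hUk, hUd⟩ := hcls g' hg'
  rw [← hT] at hTk hTd
  rw [← hU] at hUk hUd
  have hT01 : ZeroOne T := fun w => by rw [hT, ind_coeff]; split_ifs <;> simp
  have hTU : (T * U).coeff 1 = 0 := by
    rw [coeff_mul_sum]
    refine Finset.sum_eq_zero fun w _ => ?_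
    rw [mul_one, S.coeff_inv hUI, hT, hU, ind_coeff, ind_coeff]
    split_ifs with h1 h2 <;> simp
    exact hne (h1.trans h2.symm)
  have hTT : (T * T).coeff 1 = k := by
    rw [coeff_mul_sum, ← hTk, tot_eq]
    refine Finset.sum_congr rfl fun w _ => ?_
    rw [mul_one, S.coeff_inv hTI]
    rcases hT01 w with h | h <;> simp [h]
  have e1 := hlin _ (hTI.mul hUI) hTU
  rw [map_mul, map_mul, hTk, hTd, hUk, hUd] at e1
  have e2 := hlin (T * T - k • 1) ((hTI.mul hTI).sub (Inv.one.smul k)) (by simp [hTT, coeff_one])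
  rw [map_sub, map_sub, map_mul, map_mul, map_smul, map_smul, map_one, map_one, hTk, hTd, smul_eq_mul, mul_one]
    at e2
  have hk0 : 1 ≤ k := by
    rw [← hTk, tot_eq]
    refine le_trans ?_ (Finset.single_le_sum (f := fun w => T.coeff w)
      (fun w _ => by rcases hT01 w with h | h <;> simp [h]) (Finset.mem_univ g))
    simp [hT, Rel.refl]
  have e3 : k * (k - d) = 0 := by linear_combination e1 - e2
  have hkd : k = d := sub_eq_zero.1 ((mul_eq_zero.1 e3).resolve_left (by omega))
  have hB : sumS T = 0 := by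
    have := hTk.trans (hkd.trans hTd.symm)
    rw [tot_eq', sgn_eq'] at this
    linarith
  have hTC : InC T := fun i => (Finset.sum_eq_zero_iff_of_nonneg fun j _ => by
    rcases hT01 (sr j) with e | e <;> simp [e]).1 hB i (Finset.mem_univ _)
  have := S.eq_zero_of_inC hTI hTC hg
  simp [hT, Rel.refl] at this

end Regular

end Cfsg.Agent.Perm.DihedralB
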